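import Mathlib

/-!
# The elements of norm one of an extension of finite fields generate the additive group (helper935)
-/

set_option autoImplicit false

namespace Cfsg.Agent.H935

open Module

variable {F E : Type*} [Field F] [Field E] [Algebra F E] [Finite F] [FiniteDimensional F E]

omit [Finite F] in
theorem card_ext (F E : Type*) [Field F] [Field E] [Algebra F E] [FiniteDimensional F E] :
    Nat.card E = Nat.card F ^ finrank F E := Module.natCard_eq_pow_finrank (K := F) (V := E)

/-- the number of elements of norm one -/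
theorem card_norm_one (F E : Type*) [Field F] [Field E] [Algebra F E] [Finite F] [FiniteDimensional F E] :
    Nat.card F ^ finrank F E ≤
      Nat.card {δ : Eˣ | Algebra.norm F (δ : E) = 1} * (Nat.card F - 1) + 1 := by
  have : Finite E := Module.finite_of_finite F
  let f : Eˣ →* Fˣ := Units.map (Algebra.norm F : E →* F)
  have h1 : Nat.card f.ker * f.ker.index = Nat.card Eˣ := f.ker.card_mul_index
  rw [Subgroup.index_ker] at h1
  have h2 : Nat.card f.range ≤ Nat.card Fˣ := Nat.card_le_card_of_injective _ Subtype.val_injective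
  rw [Nat.card_units] at h1 h2
  have h3 : Nat.card E = Nat.card F ^ finrank F E := card_ext F E
  have h4 : Nat.card f.ker = Nat.card {δ : Eˣ | Algebra.norm F (δ : E) = 1} := by
    refine Nat.card_congr (Equiv.subtypeEquivRight fun δ => ?_)
    simp only [MonoidHom.mem_ker, Set.mem_ofPred_eq, f]
    rw [Units.ext_iff]
    rfl
  rw [← h3, ← h4]
  have h5 : 0 < Nat.card E := Nat.card_pos
  have h6 := Nat.mul_le_mul_left (Nat.card f.ker) h2
  omega

/-- a proper subring `R` of a finite field `E` satisfies `|R|² ≤ |E|` -/
theorem card_subring_sq {E : Type*} [Field E] [Finite E] (R : Subring E) (hR : R ≠ ⊤) :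
    Nat.card R * Nat.card R ≤ Nat.card E := by
  obtain ⟨t, ht⟩ : ∃ t, t ∉ R := by
    by_contra h
    push Not at h
    exact hR (eq_top_iff.mpr fun x _ => h x)
  have hinv : ∀ c ∈ R, c ≠ 0 → c⁻¹ ∈ R := by
    intro c hc h0
    have : Fintype E := Fintype.ofFinite E
    have h1 : c ^ (Fintype.card E - 1) = 1 := FiniteField.pow_card_sub_one_eq_one c h0
    have h2 : c⁻¹ = c ^ (Fintype.card E - 2) := by
      have h3 : 2 ≤ Fintype.card E := Fintype.one_lt_card
      have h4 : c * c ^ (Fintype.card E - 2) = 1 := by
        rw [← pow_succ', ← h1]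
        congr 1
        omega
      exact inv_eq_of_mul_eq_one_right h4
    rw [h2]
    exact R.pow_mem hc _
  rw [← Nat.card_prod]
  refine Nat.card_le_card_of_injective (fun x : R × R => (x.1 : E) + x.2 * t) ?_
  rintro ⟨a, b⟩ ⟨a', b'⟩ h
  simp only at h
  by_cases hb : b = b'
  · subst hb
    have : (a : E) = a' := by simpa using h
    rw [Subtype.ext this]
  · exfalso
    apply ht
    have hne : (b : E) - b' ≠ 0 := by
      intro h0
      exact hb (Subtype.ext (sub_eq_zero.mp h0))
    have : t = ((b : E) - b')⁻¹ * (a' - a) := by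
      field_simp
      linear_combination h
    rw [this]
    exact R.mul_mem (hinv _ (R.sub_mem b.2 b'.2) hne) (R.sub_mem a'.2 a.2)

/-- the additive group of `E` is generated by the elements of norm one -/
theorem closure_norm_one (F E : Type*) [Field F] [Field E] [Algebra F E] [Finite F] [FiniteDimensional F E]
    (hr : 2 ≤ finrank F E) : AddSubgroup.closure {δ : E | Algebra.norm F δ = 1} = ⊤ := by
  have : Finite E := Module.finite_of_finite F
  let S : Submonoid E :=
    { carrier := {δ : E | Algebra.norm F δ = 1}
      one_mem' := by simp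
      mul_mem' := by
        intro a b ha hb
        simp only [Set.mem_ofPred_eq] at ha hb ⊢
        rw [map_mul, ha, hb, one_mul] }
  let R : Subring E := Subring.closure (S : Set E)
  have hRmem : ∀ x, x ∈ R ↔ x ∈ AddSubgroup.closure {δ : E | Algebra.norm F δ = 1} := by
    intro x
    rw [Subring.mem_closure_iff, Submonoid.closure_eq]
    rfl
  have hR : R = ⊤ := by
    by_contra hne
    have h1 := card_subring_sq R hne
    have h2 := card_norm_one F E
    set k := Nat.card {δ : Eˣ | Algebra.norm F (δ : E) = 1} with hk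
    set q := Nat.card F with hq
    have hq2 : 2 ≤ q := Finite.one_lt_card
    -- `k + 1 ≤ |R|`
    have h3 : k + 1 ≤ Nat.card R := by
      have h4 : Nat.card (Option {δ : Eˣ | Algebra.norm F (δ : E) = 1}) = k + 1 := Finite.card_option
      rw [← h4]
      refine Nat.card_le_card_of_injective (fun o => match o with
        | none => (0 : R)
        | some δ => ⟨((δ : Eˣ) : E), Subring.subset_closure δ.2⟩) ?_
      rintro (_ | ⟨δ, hδ⟩) (_ | ⟨δ', hδ'⟩) h
      · rfl
      · exfalso
        exact δ'.ne_zero (congrArg Subtype.val h).symm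
      · exfalso
        exact δ.ne_zero (congrArg Subtype.val h)
      · have := congrArg Subtype.val h
        simp only at this
        have h5 : δ = δ' := Units.ext this
        subst h5
        rfl
    rw [card_ext F E, ← hq] at h1
    set N := q ^ finrank F E with hN
    have hNq : q ^ 2 ≤ N := Nat.pow_le_pow_right (by omega) hr
    obtain ⟨s, hs⟩ : ∃ s, q = s + 2 := ⟨q - 2, by omega⟩
    have h6 : q - 1 = s + 1 := by omega
    rw [h6] at h2
    rw [hs] at hNq
    -- `N ≤ (k+1)(s+1)`, `(k+1)^2 ≤ N`, `(s+2)^2 ≤ N`
    have h7 : N ≤ (k + 1) * (s + 1) := by nlinarith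
    have h8 : (k + 1) * (k + 1) ≤ N := le_trans (Nat.mul_le_mul h3 h3) h1
    have h9 : N * N ≤ N * ((s + 1) * (s + 1)) := by
      calc N * N ≤ ((k + 1) * (s + 1)) * ((k + 1) * (s + 1)) := Nat.mul_le_mul h7 h7
        _ = ((k + 1) * (k + 1)) * ((s + 1) * (s + 1)) := by ring
        _ ≤ N * ((s + 1) * (s + 1)) := Nat.mul_le_mul_right _ h8
    have hNpos : 0 < N := by nlinarith
    have h10 : N ≤ (s + 1) * (s + 1) := Nat.le_of_mul_le_mul_left h9 hNpos
    nlinarith
  rw [eq_top_iff]
  intro x _
  rw [← hRmem, hR]
  trivial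

/-- an `F`-subspace containing the elements of norm one is everything -/
theorem exists_norm_one_notMem (hr : 2 ≤ finrank F E) (W : Submodule F E) (hW : W ≠ ⊤) :
    ∃ δ : E, Algebra.norm F δ = 1 ∧ δ ∉ W := by
  by_contra h
  push Not at h
  apply hW
  rw [eq_top_iff]
  intro x _
  have h1 : x ∈ AddSubgroup.closure {δ : E | Algebra.norm F δ = 1} := by
    rw [closure_norm_one F E hr]; trivial
  have h2 : AddSubgroup.closure {δ : E | Algebra.norm F δ = 1} ≤ W.toAddSubgroup := by
    rw [AddSubgroup.closure_le]
    intro δ hδ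
    exact h δ hδ
  exact h2 h1

end Cfsg.Agent.H935
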