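import Mathlib

/-!
# Overgroups of the extension-field groups: unipotent elements `1 + A` in a subgroup of `V ≃ₗ[F] V` (helper935)
-/

set_option autoImplicit false

namespace Cfsg.Agent.H935

open Module

section Has

variable {F V : Type*} [Field F] [AddCommGroup V] [Module F V]

/-- `1 + A` belongs to `X`. -/
def Has (X : Subgroup (V ≃ₗ[F] V)) (A : V →ₗ[F] V) : Prop := ∃ g ∈ X, ∀ v, g v = v + A v

/-- the rank one map `v ↦ φ(v) a` -/
def rk (φ : V →ₗ[F] F) (a : V) : V →ₗ[F] V := φ.smulRight a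

@[simp] theorem rk_apply (φ : V →ₗ[F] F) (a v : V) : rk φ a v = φ v • a := rfl

variable {X : Subgroup (V ≃ₗ[F] V)} {A B : V →ₗ[F] V}

theorem Has.congr (h : Has X A) (hAB : ∀ v, A v = B v) : Has X B := by
  obtain ⟨g, hg, h⟩ := h
  exact ⟨g, hg, fun v => by rw [h, hAB]⟩

theorem inv_apply_of {g : V ≃ₗ[F] V} (hg : ∀ v, g v = v + A v) (hAA : ∀ v, A (A v) = 0) (v : V) :
    (g⁻¹ : V ≃ₗ[F] V) v = v - A v := by
  change g.symm v = _
  rw [LinearEquiv.symm_apply_eq, hg, map_sub, hAA]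
  simp

theorem Has.neg (hA : Has X A) (hAA : ∀ v, A (A v) = 0) : Has X (-A) := by
  obtain ⟨g, hg, h⟩ := hA
  exact ⟨g⁻¹, X.inv_mem hg, fun v => by rw [inv_apply_of h hAA]; simp [sub_eq_add_neg]⟩

theorem Has.add (hA : Has X A) (hB : Has X B) (hAB : ∀ v, A (B v) = 0) : Has X (A + B) := by
  obtain ⟨g, hg, h⟩ := hA
  obtain ⟨k, hk, h'⟩ := hB
  refine ⟨g * k, X.mul_mem hg hk, fun v => ?_⟩
  rw [LinearEquiv.mul_apply, h', h, map_add, hAB]
  simp [add_comm, add_left_comm]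

theorem Has.conj (hA : Has X A) {g : V ≃ₗ[F] V} (hg : g ∈ X) :
    Has X ((g : V →ₗ[F] V) ∘ₗ A ∘ₗ ((g⁻¹ : V ≃ₗ[F] V) : V →ₗ[F] V)) := by
  obtain ⟨k, hk, h⟩ := hA
  refine ⟨g * k * g⁻¹, X.mul_mem (X.mul_mem hg hk) (X.inv_mem hg), fun v => ?_⟩
  rw [LinearEquiv.mul_apply, LinearEquiv.mul_apply, h, map_add]
  have : g ((g⁻¹ : V ≃ₗ[F] V) v) = v := by
    change g (g.symm v) = v
    simp
  rw [this]
  rfl

/-- commutator of `1 + A` and `1 + B` when `ABA = 0` and `BAB = 0` -/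
theorem Has.comm' (hA : Has X A) (hB : Has X B) (hAA : ∀ v, A (A v) = 0) (hBB : ∀ v, B (B v) = 0)
    (hABA : ∀ v, A (B (A v)) = 0) (hBAB : ∀ v, B (A (B v)) = 0) : Has X (A ∘ₗ B - B ∘ₗ A) := by
  obtain ⟨g, hg, h⟩ := hA
  obtain ⟨k, hk, h'⟩ := hB
  refine ⟨g * k * g⁻¹ * k⁻¹, X.mul_mem (X.mul_mem (X.mul_mem hg hk) (X.inv_mem hg)) (X.inv_mem hk), fun v => ?_⟩
  rw [LinearEquiv.mul_apply, LinearEquiv.mul_apply, LinearEquiv.mul_apply, inv_apply_of h' hBB,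
    inv_apply_of h hAA, h', h]
  simp only [map_sub, map_add, hAA, hBB, hABA, hBAB, LinearMap.sub_apply, LinearMap.comp_apply]
  abel

/-- commutator of `1 + A` and `1 + B` when `BA = 0` -/
theorem Has.comm (hA : Has X A) (hB : Has X B) (hAA : ∀ v, A (A v) = 0) (hBB : ∀ v, B (B v) = 0)
    (hBA : ∀ v, B (A v) = 0) : Has X (A ∘ₗ B) := by
  refine (hA.comm' hB hAA hBB (fun v => by rw [hBA, map_zero]) (fun v => by rw [hBA])).congr ?_
  intro v
  simp [hBA]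

/-- commutator of two transvections -/
theorem Has.rk_comm {φ χ : V →ₗ[F] F} {a b : V} (h1 : Has X (rk φ a)) (h2 : Has X (rk χ b)) (ha : φ a = 0)
    (hb : χ b = 0) (hφb : φ b = 0) : Has X (rk (χ a • φ) b) := by
  refine (h2.comm h1 ?_ ?_ ?_).congr ?_
  · intro v; simp [hb]
  · intro v; simp [ha]
  · intro v; simp [hφb]
  · intro v; simp [smul_smul, mul_comm]

theorem Has.rk_add {φ χ : V →ₗ[F] F} {a : V} (h1 : Has X (rk φ a)) (h2 : Has X (rk χ a)) (ha : φ a = 0) :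
    Has X (rk (φ + χ) a) := by
  refine (h1.add h2 ?_).congr ?_
  · intro v; simp [ha]
  · intro v; simp [add_smul]

theorem Has.rk_neg {φ : V →ₗ[F] F} {a : V} (h1 : Has X (rk φ a)) (ha : φ a = 0) : Has X (rk (-φ) a) := by
  refine (h1.neg ?_).congr ?_
  · intro v; simp [ha]
  · intro v; simp

theorem Has.rk_sub {φ χ : V →ₗ[F] F} {a : V} (h1 : Has X (rk φ a)) (h2 : Has X (rk χ a)) (ha : φ a = 0)
    (ha' : χ a = 0) : Has X (rk (φ - χ) a) := by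
  rw [sub_eq_add_neg]
  exact h1.rk_add (h2.rk_neg ha') ha

theorem Has.rk_conj {φ : V →ₗ[F] F} {a : V} (h1 : Has X (rk φ a)) {g : V ≃ₗ[F] V} (hg : g ∈ X) :
    Has X (rk (φ ∘ₗ ((g⁻¹ : V ≃ₗ[F] V) : V →ₗ[F] V)) (g a)) := by
  refine (h1.conj hg).congr ?_
  intro v
  simp

end Has

end Cfsg.Agent.H935
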