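import Cfsg.Agent.H935.ExtPair

/-!
# Finding an `F`-transvection (helper935)
-/

set_option autoImplicit false

namespace Cfsg.Agent.H935

open Module

section Find

variable {F E V : Type*} [Field F] [Field E] [Algebra F E] [AddCommGroup V] [Module F V] [Module E V]
  [IsScalarTower F E V]

variable {X : Subgroup (V ≃ₗ[F] V)}

/-- a map with all values on the line `F p` -/
theorem exists_rk_of {T : V →ₗ[F] V} {p : V} (hp : p ≠ 0) (h : ∀ v, ∃ c : F, T v = c • p) :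
    ∃ φ : V →ₗ[F] F, ∀ v, T v = φ v • p := by
  obtain ⟨f, hf⟩ := exists_functional_one (E := F) hp
  refine ⟨f ∘ₗ T, fun v => ?_⟩
  obtain ⟨c, hc⟩ := h v
  rw [LinearMap.comp_apply, hc, map_smul, hf, smul_eq_mul, mul_one]

/-- the conclusion: some `F`-transvection lies in `X` -/
def HasTransvection (X : Subgroup (V ≃ₗ[F] V)) : Prop :=
  ∃ (φ : V →ₗ[F] F) (a : V), a ≠ 0 ∧ φ ≠ 0 ∧ φ a = 0 ∧ Has X (rk φ a)

theorem hasTransvection_of {T : V →ₗ[F] V} {p : V} (hp : p ≠ 0) (h : ∀ v, ∃ c : F, T v = c • p) (hT : Has X T)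
    (hTp : T p = 0) {v : V} (hv : T v ≠ 0) : HasTransvection X := by
  obtain ⟨φ, hφ⟩ := exists_rk_of hp h
  refine ⟨φ, p, hp, ?_, ?_, hT.congr hφ⟩
  · rintro rfl
    apply hv
    rw [hφ]
    simp
  · have := hφ p
    rw [hTp] at this
    exact (smul_eq_zero.mp this.symm).resolve_right hp

/-- the conjugated rank one maps: for `y ∉ L'` and `z ∈ L'` maps `B z` with `B z y = z` -/
theorem exists_B (hX : ContainsN F E V X) {u' : V} {g : V ≃ₗ[F] V} (hg : g ∈ X) {y : V}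
    (hy : y ∉ (Ln F E u').map (g : V →ₗ[F] V)) :
    ∃ ψ₁ : V →ₗ[E] E, ψ₁ u' = 0 ∧ ψ₁ (g.symm y) = 1 ∧ ∀ z ∈ (Ln F E u').map (g : V →ₗ[F] V),
      ∃ B : V →ₗ[F] V, Has X B ∧ (∀ v, B v = g (ψ₁ (g.symm v) • g.symm z)) ∧
        (∀ v, B v ∈ (Ln F E u').map (g : V →ₗ[F] V)) ∧ (∀ v ∈ (Ln F E u').map (g : V →ₗ[F] V), B v = 0) ∧
        B y = z ∧ (z ≠ 0 → ∀ w ∈ (Ln F E u').map (g : V →ₗ[F] V), ∃ v, B v = w) := by
  have hy' : g.symm y ∉ Submodule.span E {u'} := by
    intro h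
    apply hy
    exact ⟨g.symm y, h, by simp⟩
  obtain ⟨ψ₁, h1, h2⟩ := exists_functional hy'
  refine ⟨ψ₁, h1, h2, ?_⟩
  rintro _ ⟨z₀, hz₀, rfl⟩
  obtain ⟨s, rfl⟩ := mem_Ln.mp hz₀
  have h3 : ψ₁ (s • u') = 0 := by rw [map_smul, h1, smul_zero]
  have hB := (has_erk hX h3).conj hg
  refine ⟨_, hB, ?_, ?_, ?_, ?_, ?_⟩
  · intro v
    change g (ψ₁ (g.symm v) • s • u') = g (ψ₁ (g.symm v) • g.symm (g (s • u')))
    simp
  · intro v
    exact ⟨ψ₁ (g.symm v) • s • u', smul_mem_Ln _ hz₀, rfl⟩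
  · rintro _ ⟨w, hw, rfl⟩
    obtain ⟨t, rfl⟩ := mem_Ln.mp hw
    change g (ψ₁ (g.symm (g (t • u'))) • s • u') = 0
    simp [h1]
  · change g (ψ₁ (g.symm y) • s • u') = g (s • u')
    rw [h2, one_smul]
  · rintro hz _ ⟨w, hw, rfl⟩
    obtain ⟨t, rfl⟩ := mem_Ln.mp hw
    have hs : s ≠ 0 := by
      rintro rfl
      apply hz
      simp
    refine ⟨g ((t * s⁻¹) • g.symm y), ?_⟩
    change g (ψ₁ (g.symm (g ((t * s⁻¹) • g.symm y))) • s • u') = g (t • u')
    rw [LinearEquiv.symm_apply_apply, ψ₁.map_smul, h2, smul_smul]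
    congr 2
    simp only [smul_eq_mul, mul_one]
    rw [inv_mul_cancel_right₀ hs]

variable [Finite F] [FiniteDimensional F E] [Module.Finite E V]

/-- Case `m ≥ 3`. -/
theorem find_of_three (hX : ContainsN F E V X) (hm : 3 ≤ finrank E V) {u u' : V} {g : V ≃ₗ[F] V}
    (D : PairData (E := E) X u u' g) : HasTransvection X := by
  have hFV : FiniteDimensional F V := Module.Finite.trans E V
  set L := Ln F E u with hL
  set L' := (Ln F E u').map (g : V →ₗ[F] V) with hL'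
  obtain ⟨p, ⟨hpL, hpL'⟩, hp0⟩ := Submodule.exists_mem_ne_zero_of_ne_bot D.inf_ne
  have hdimL : finrank F L = finrank F E := finrank_Ln D.u_ne
  have hdimL' : finrank F L' = finrank F E := by
    rw [hL', LinearEquiv.finrank_map_eq, finrank_Ln D.u'_ne]
  obtain ⟨x, hx, hxL⟩ : ∃ x ∈ L', x ∉ L := by
    by_contra hcon
    push Not at hcon
    exact D.ne (Submodule.eq_of_le_of_finrank_eq hcon (by rw [hdimL, hdimL']))
  obtain ⟨y, hy, hyL'⟩ : ∃ y ∈ L, y ∉ L' := by
    by_contra hcon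
    push Not at hcon
    exact D.ne (Submodule.eq_of_le_of_finrank_eq hcon (by rw [hdimL, hdimL'])).symm
  obtain ⟨ψ₁, _, _, hB⟩ := exists_B hX D.mem hyL'
  obtain ⟨B, hB0, _, hB1, hB2, hB3, _⟩ := hB p hpL'
  -- the functional `ψ` vanishing on `u` and `x`
  obtain ⟨z, hz⟩ : ∃ z : V, z ∉ Submodule.span E {u, x} := by
    by_contra hcon
    push Not at hcon
    have h1 : Submodule.span E {u, x} = ⊤ := eq_top_iff.mpr fun v _ => hcon v
    have h2 : finrank E (Submodule.span E ({u, x} : Set V)) ≤ 2 := by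
      classical
      have h3 := finrank_span_le_card (R := E) ({u, x} : Set V)
      refine h3.trans ?_
      simp only [Set.toFinset_insert, Set.toFinset_singleton]
      exact Finset.card_le_two
    rw [h1, finrank_top] at h2
    omega
  obtain ⟨f, hf, hle⟩ := Submodule.exists_le_ker_of_notMem hz
  let ψ : V →ₗ[E] E := (f z)⁻¹ • f
  have hψu : ψ u = 0 := by
    have : f u = 0 := hle (Submodule.subset_span (by simp))
    simp [ψ, this]
  have hψx : ψ x = 0 := by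
    have : f x = 0 := hle (Submodule.subset_span (by simp))
    simp [ψ, this]
  have hψz : ψ z = 1 := by simp [ψ, hf]
  have hψL : ∀ v ∈ L, ψ v = 0 := by
    intro v hv
    obtain ⟨e, rfl⟩ := mem_Ln.mp hv
    simp [hψu]
  have hψL' : ∀ v ∈ L', ψ v = 0 := by
    intro v hv
    obtain ⟨c, hc⟩ := D.left x hx hxL v hv
    have h1 := hψL _ hc
    have h2 : c • x = (algebraMap F E c) • x := by rw [algebraMap_smul]
    rw [map_sub, h2, map_smul, hψx, smul_zero, sub_zero] at h1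
    exact h1
  have hA := has_erk hX (hψL y hy)
  have hT : Has X (B ∘ₗ (erk ψ y : V →ₗ[F] V)) := by
    refine hB0.comm hA ?_ ?_ ?_
    · intro v; exact hB2 _ (hB1 v)
    · intro v; simp [hψL y hy]
    · intro v; simp [hψL' _ (hB1 v)]
  refine hasTransvection_of hp0 ?_ hT ?_ (v := z) ?_
  · intro v
    obtain ⟨c, hc⟩ := D.right y hy hyL' (ψ v • y) (smul_mem_Ln _ hy)
    refine ⟨c, ?_⟩
    have h1 := hB2 _ hc
    rw [map_sub, B.map_smul c y, hB3, sub_eq_zero] at h1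
    exact h1
  · simp [hψL p hpL]
  · simp [hψz, hB3, hp0]

/-- Case `m = 2`, `r ≥ 3`. -/
theorem find_of_two (hX : ContainsN F E V X) (hm : finrank E V = 2) (hr : 3 ≤ finrank F E) {u u' : V}
    {g : V ≃ₗ[F] V} (D : PairData (E := E) X u u' g) : HasTransvection X := by
  have hFV : FiniteDimensional F V := Module.Finite.trans E V
  set L := Ln F E u with hL
  set L' := (Ln F E u').map (g : V →ₗ[F] V) with hL'
  obtain ⟨p, ⟨hpL, hpL'⟩, hp0⟩ := Submodule.exists_mem_ne_zero_of_ne_bot D.inf_ne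
  have hdimL : finrank F L = finrank F E := finrank_Ln D.u_ne
  have hdimL' : finrank F L' = finrank F E := by
    rw [hL', LinearEquiv.finrank_map_eq, finrank_Ln D.u'_ne]
  obtain ⟨x, hx, hxL⟩ : ∃ x ∈ L', x ∉ L := by
    by_contra hcon
    push Not at hcon
    exact D.ne (Submodule.eq_of_le_of_finrank_eq hcon (by rw [hdimL, hdimL']))
  obtain ⟨y, hy, hyL'⟩ : ∃ y ∈ L, y ∉ L' := by
    by_contra hcon
    push Not at hcon
    exact D.ne (Submodule.eq_of_le_of_finrank_eq hcon (by rw [hdimL, hdimL'])).symm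
  -- `p' ∈ P` independent of `p`
  obtain ⟨p', ⟨hp'L, hp'L'⟩, hp'⟩ : ∃ p' ∈ L ⊓ L', p' ∉ Submodule.span F {p} := by
    by_contra hcon
    push Not at hcon
    have h1 : L ⊓ L' ≤ Submodule.span F {p} := hcon
    have h2 := Submodule.finrank_mono h1
    have h3 : finrank F (Submodule.span F {p}) ≤ 1 := by
      refine (finrank_span_le_card ({p} : Set V)).trans ?_
      simp
    have h4 := D.finrank_inf
    change finrank F ↥(L ⊓ L') + 1 = _ at h4
    omega
  have hp'0 : p' ≠ 0 := by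
    rintro rfl
    exact hp' (Submodule.zero_mem _)
  obtain ⟨ψ₁, _, _, hB⟩ := exists_B hX D.mem hyL'
  obtain ⟨B, hB0, _, hB1, hB2, hB3, hB4⟩ := hB p' hp'L'
  obtain ⟨ψ, hψu, hψx⟩ := exists_functional (E := E) (u := u) (v := x) hxL
  have hψL : ∀ v ∈ L, ψ v = 0 := by
    intro v hv
    obtain ⟨e, rfl⟩ := mem_Ln.mp hv
    simp [hψu]
  -- the kernel of `ψ` is `L`
  have hker : ∀ v, ψ v = 0 → v ∈ L := by
    intro v hv
    have h1 : finrank E (LinearMap.range ψ) + finrank E (LinearMap.ker ψ) = 2 := by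
      rw [LinearMap.finrank_range_add_finrank_ker, hm]
    have h2 : LinearMap.range ψ = ⊤ := by
      rw [LinearMap.range_eq_top]
      intro e
      exact ⟨e • x, by simp [hψx]⟩
    rw [h2, finrank_top, finrank_self] at h1
    have h3 : Submodule.span E {u} ≤ LinearMap.ker ψ := by
      rw [Submodule.span_singleton_le_iff_mem]
      exact hψu
    have h4 : finrank E (Submodule.span E {u}) = 1 := finrank_span_singleton D.u_ne
    have h5 : Submodule.span E {u} = LinearMap.ker ψ :=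
      Submodule.eq_of_le_of_finrank_eq h3 (by omega)
    have h6 : v ∈ Submodule.span E {u} := by rw [h5]; exact hv
    exact h6
  let A : V →ₗ[F] V := erk ψ p
  have hA0 : Has X A := has_erk hX (hψL p hpL)
  have hA : ∀ v, A v = ψ v • p := fun v => rfl
  have hAL : ∀ v ∈ L, A v = 0 := by intro v hv; rw [hA, hψL v hv, zero_smul]
  have hAv : ∀ v, A v ∈ L := fun v => smul_mem_Ln _ hpL
  have hAL' : ∀ v ∈ L', ∃ c : F, A v = c • p := by
    intro v hv
    obtain ⟨c, hc⟩ := D.left x hx hxL v hv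
    refine ⟨c, ?_⟩
    have h1 := hAL _ hc
    rw [map_sub, map_smul, sub_eq_zero] at h1
    rw [h1, hA, hψx, one_smul]
  have hBL : ∀ v ∈ L, ∃ c : F, B v = c • p' := by
    intro v hv
    obtain ⟨c, hc⟩ := D.right y hy hyL' v hv
    refine ⟨c, ?_⟩
    have h1 := hB2 _ hc
    rw [map_sub, map_smul, hB3, sub_eq_zero] at h1
    exact h1
  have hAp' : A p' = 0 := hAL p' hp'L
  have hBp : B p = 0 := hB2 p hpL'
  let C : V →ₗ[F] V := A ∘ₗ B - B ∘ₗ A
  have hC : ∀ v, C v = A (B v) - B (A v) := fun v => rfl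
  have hC0 : Has X C := by
    refine hA0.comm' hB0 ?_ ?_ ?_ ?_
    · intro v; exact hAL _ (hAv v)
    · intro v; exact hB2 _ (hB1 v)
    · intro v
      obtain ⟨c, hc⟩ := hBL _ (hAv v)
      rw [hc, map_smul, hAp', smul_zero]
    · intro v
      obtain ⟨c, hc⟩ := hAL' _ (hB1 v)
      rw [hc, map_smul, hBp, smul_zero]
  have hCL : ∀ v ∈ L, C v = 0 := by
    intro v hv
    rw [hC, hAL v hv, map_zero, sub_zero]
    obtain ⟨c, hc⟩ := hBL _ hv
    rw [hc, map_smul, hAp', smul_zero]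
  have hCv : ∀ v, C v ∈ L ⊓ L' := by
    intro v
    rw [hC]
    refine Submodule.sub_mem _ ?_ ?_
    · obtain ⟨c, hc⟩ := hAL' _ (hB1 v)
      rw [hc]
      exact Submodule.smul_mem _ _ ⟨hpL, hpL'⟩
    · obtain ⟨c, hc⟩ := hBL _ (hAv v)
      rw [hc]
      exact Submodule.smul_mem _ _ ⟨hp'L, hp'L'⟩
  -- `C ≠ 0`
  obtain ⟨v₀, hv₀⟩ : ∃ v, C v ≠ 0 := by
    obtain ⟨v, hv⟩ := hB4 hp'0 x hx
    refine ⟨v, ?_⟩
    intro h
    rw [hC, hv, hA, hψx, one_smul, sub_eq_zero] at h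
    obtain ⟨c, hc⟩ := hBL _ (hAv v)
    rw [hc] at h
    have hc0 : c ≠ 0 := by
      rintro rfl
      rw [zero_smul] at h
      exact hp0 h
    apply hp'
    rw [Submodule.mem_span_singleton]
    exact ⟨c⁻¹, by rw [h, smul_smul, inv_mul_cancel₀ hc0, one_smul]⟩
  -- a `δ` of norm one with `C (δ x) ≠ 0`
  let W : Submodule F E :=
    { carrier := {κ | C (κ • x) = 0}
      add_mem' := by
        intro a b ha hb
        simp only [Set.mem_ofPred_eq] at ha hb ⊢
        rw [add_smul, map_add, ha, hb, add_zero]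
      zero_mem' := by
        change C ((0 : E) • x) = 0
        rw [zero_smul, map_zero]
      smul_mem' := by
        intro c a ha
        simp only [Set.mem_ofPred_eq] at ha ⊢
        rw [smul_assoc, map_smul, ha, smul_zero] }
  have hW : W ≠ ⊤ := by
    intro h
    apply hv₀
    have h1 : v₀ - ψ v₀ • x ∈ L := by
      apply hker
      simp [hψx]
    have h2 := hCL _ h1
    have h3 : ψ v₀ ∈ W := by rw [h]; trivial
    have h4 : C (ψ v₀ • x) = 0 := h3
    rw [map_sub, h4, sub_zero] at h2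
    exact h2
  obtain ⟨δ, hδ, hδW⟩ := exists_norm_one_notMem (by omega) W hW
  have hδC : C (δ • x) ≠ 0 := hδW
  obtain ⟨n, hn, hn1, hn2⟩ := exists_dil hX hψx hδ
  have hnx : n x = δ • x := by
    rw [hn1, hψx, one_smul, sub_smul, one_smul]; abel
  have hnL : ∀ v ∈ L, n v = v := by
    intro v hv
    rw [hn1, hψL v hv, zero_smul, add_zero]
  have hnL' : ∀ v ∈ L, (n⁻¹ : V ≃ₗ[F] V) v = v := by
    intro v hv
    rw [hn2, hψL v hv, zero_smul, add_zero]
  obtain ⟨B₂, hB20, _, hB21, hB22, hB23, hB24⟩ := hB p hpL'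
  have hBn := hB20.conj hn
  set Bn : V →ₗ[F] V := (n : V →ₗ[F] V) ∘ₗ B₂ ∘ₗ ((n⁻¹ : V ≃ₗ[F] V) : V →ₗ[F] V) with hBndef
  have hBnv : ∀ v, Bn v = n (B₂ ((n⁻¹ : V ≃ₗ[F] V) v)) := fun v => rfl
  have hnn : ∀ v, (n⁻¹ : V ≃ₗ[F] V) (n v) = v := by
    intro v
    change n.symm (n v) = v
    simp
  have hBnP : ∀ v ∈ L ⊓ L', Bn v = 0 := by
    intro v hv
    rw [hBnv, hnL' v hv.1, hB22 v hv.2, map_zero]
  have hT : Has X (C ∘ₗ Bn) := by
    refine hC0.comm hBn ?_ ?_ ?_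
    · intro v; exact hCL _ (hCv v).1
    · intro v
      rw [hBnv, hBnv, hnn, hB22 _ (hB21 _), map_zero]
    · intro v; exact hBnP _ (hCv v)
  have hTv : ∀ v, ∃ c : F, (C ∘ₗ Bn) v = c • C (δ • x) := by
    intro v
    rw [LinearMap.comp_apply, hBnv]
    obtain ⟨c, hc⟩ := D.left x hx hxL _ (hB21 ((n⁻¹ : V ≃ₗ[F] V) v))
    refine ⟨c, ?_⟩
    set w := B₂ ((n⁻¹ : V ≃ₗ[F] V) v) with hw
    have h1 : w = (w - c • x) + c • x := by abel
    rw [h1, map_add, hnL _ hc, map_smul, hnx, map_add, hCL _ hc, zero_add, map_smul]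
  obtain ⟨v', hv'⟩ := hB24 hp0 x hx
  refine hasTransvection_of hδC hTv hT ?_ (v := n v') ?_
  · rw [LinearMap.comp_apply, hBnP _ (hCv _), map_zero]
  · rw [LinearMap.comp_apply, hBnv, hnn, hv', hnx]
    exact hδC

end Find

end Cfsg.Agent.H935
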