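import Cfsg.Agent.H935.ExtQuad

/-!
# Overgroups of the extension-field groups of prime degree (helper935)
-/

set_option autoImplicit false

namespace Cfsg.Agent.H935

open Module

section Main

variable {F E V : Type*} [Field F] [Field E] [Algebra F E] [AddCommGroup V] [Module F V] [Module E V]
  [IsScalarTower F E V] {X : Subgroup (V ≃ₗ[F] V)}

/-- an `F`-automorphism mapping all `E`-lines to `E`-lines is `E`-semilinear -/
theorem semilinear_of_lines (hm : 2 ≤ finrank E V) (g : V ≃ₗ[F] V)
    (h : ∀ u : V, u ≠ 0 → (Ln F E u).map (g : V →ₗ[F] V) = Ln F E (g u)) (e : E) :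
    ∃ e' : E, ∀ v, g (e • v) = e' • g v := by
  have hex : ∀ u : V, u ≠ 0 → ∃ s : E, g (e • u) = s • g u := by
    intro u hu
    have h1 : g (e • u) ∈ Ln F E (g u) := by
      rw [← h u hu]
      exact ⟨e • u, smul_mem_Ln _ (self_mem_Ln u), rfl⟩
    obtain ⟨s, hs⟩ := mem_Ln.mp h1
    exact ⟨s, hs.symm⟩
  -- independent vectors have the same factor
  have key : ∀ a b : V, a ≠ 0 → b ∉ Submodule.span E {a} → ∀ s t : E, g (e • a) = s • g a → g (e • b) = t • g b →
      s = t := by
    intro a b ha hb s t hs ht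
    have hind : ∀ c d : E, c • g a + d • g b = 0 → c = 0 ∧ d = 0 := by
      intro c d hcd
      have hd : d = 0 := by
        by_contra hd
        apply hb
        have h1 : g b ∈ Ln F E (g a) := by
          rw [mem_Ln]
          refine ⟨-(d⁻¹ * c), ?_⟩
          have h2 : d • g b = -(c • g a) := by
            rw [eq_neg_iff_add_eq_zero, add_comm]; exact hcd
          have h3 : g b = d⁻¹ • (d • g b) := by rw [smul_smul, inv_mul_cancel₀ hd, one_smul]
          rw [h3, h2, smul_neg, smul_smul, neg_smul]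
        rw [← h a ha] at h1
        obtain ⟨w, hw, hw'⟩ := h1
        have h4 : w = b := g.injective hw'
        rw [← h4]
        exact hw
      rw [hd, zero_smul, add_zero] at hcd
      refine ⟨?_, hd⟩
      rcases smul_eq_zero.mp hcd with h1 | h1
      · exact h1
      · exfalso
        apply ha
        apply g.injective
        rw [h1, map_zero]
    have hab : a + b ≠ 0 := by
      intro h0
      apply hb
      rw [Submodule.mem_span_singleton]
      refine ⟨-1, ?_⟩
      rw [neg_smul, one_smul, neg_eq_iff_add_eq_zero]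
      exact h0
    obtain ⟨w, hw⟩ := hex (a + b) hab
    rw [smul_add, map_add, map_add, smul_add, hs, ht] at hw
    have h1 : (s - w) • g a + (t - w) • g b = 0 := by
      rw [sub_smul, sub_smul]
      have : s • g a + t • g b - (w • g a + w • g b) = 0 := by rw [hw, sub_self]
      rw [← this]
      abel
    obtain ⟨h2, h3⟩ := hind _ _ h1
    rw [sub_eq_zero.mp h2, sub_eq_zero.mp h3]
  -- choose a base vector
  have hnt : Nontrivial V := by
    by_contra hcon
    rw [not_nontrivial_iff_subsingleton] at hcon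
    have : finrank E V = 0 := finrank_zero_of_subsingleton
    omega
  obtain ⟨a, ha⟩ := exists_ne (0 : V)
  obtain ⟨b, hb⟩ := exists_notMem_span (E := E) hm a
  have hb0 : b ≠ 0 := by
    rintro rfl
    exact hb (Submodule.zero_mem _)
  obtain ⟨s, hs⟩ := hex a ha
  obtain ⟨t, ht⟩ := hex b hb0
  have hst := key a b ha hb s t hs ht
  refine ⟨s, fun v => ?_⟩
  by_cases hv0 : v = 0
  · rw [hv0, smul_zero, map_zero, smul_zero]
  obtain ⟨r, hr⟩ := hex v hv0
  rw [hr]
  congr 1
  by_cases hva : v ∈ Submodule.span E {a}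
  · -- then `v ∉ E b`
    have hvb : v ∉ Submodule.span E {b} := by
      intro hvb
      rw [Submodule.mem_span_singleton] at hva hvb
      obtain ⟨c, hc⟩ := hva
      obtain ⟨d, hd⟩ := hvb
      have hd0 : d ≠ 0 := by
        rintro rfl
        rw [zero_smul] at hd
        exact hv0 hd.symm
      apply hb
      rw [Submodule.mem_span_singleton]
      exact ⟨d⁻¹ * c, by rw [mul_smul, hc, ← hd, smul_smul, inv_mul_cancel₀ hd0, one_smul]⟩
    rw [hst]
    exact (key b v hb0 hvb t r ht hr).symm
  · exact (key a v ha hva s r hs hr).symm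

variable [Finite F] [FiniteDimensional F E] [Module.Finite E V]

/-- A subgroup of `GL_F(V)` containing the `E`-linear maps of `F`-determinant one, `[E : F]` prime,
`dim_E V ≥ 2`, which does not consist of `E`-semilinear maps, contains all `F`-transvections. -/
theorem all_transvections (hX : ContainsN F E V X) (hr : (finrank F E).Prime) (hm : 2 ≤ finrank E V)
    (hg : ∃ g ∈ X, ∃ e : E, ∀ e' : E, ∃ v, g (e • v) ≠ e' • g v) :
    ∀ (φ : V →ₗ[F] F) (b : V), φ b = 0 → Has X (rk φ b) := by
  have hFV : FiniteDimensional F V := Module.Finite.trans E V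
  obtain ⟨g, hgX, e, he⟩ := hg
  -- a line not mapped to a line
  obtain ⟨u', hu', hne⟩ : ∃ u' : V, u' ≠ 0 ∧ (Ln F E u').map (g : V →ₗ[F] V) ≠ Ln F E (g u') := by
    by_contra hcon
    push Not at hcon
    obtain ⟨e', he'⟩ := semilinear_of_lines hm g hcon e
    obtain ⟨v, hv⟩ := he e'
    exact hv (he' v)
  have hgu : g u' ≠ 0 := by
    intro h0
    apply hu'
    apply g.injective
    rw [h0, map_zero]
  obtain ⟨u, u', g, D⟩ := exists_pairData (E := E) hX hr ⟨g u', u', g, hgu, hu', hgX, hne, by
    have h1 : Submodule.span F {g u'} ≤ Ln F E (g u') ⊓ (Ln F E u').map (g : V →ₗ[F] V) := by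
      rw [Submodule.span_singleton_le_iff_mem]
      exact ⟨self_mem_Ln _, ⟨u', self_mem_Ln _, rfl⟩⟩
    have h2 := Submodule.finrank_mono h1
    rwa [finrank_span_singleton hgu] at h2⟩
  have hT : HasTransvection X := by
    rcases Nat.lt_or_ge 2 (finrank E V) with h3 | h3
    · exact find_of_three hX h3 D
    · have h4 : finrank E V = 2 := le_antisymm h3 hm
      rcases Nat.lt_or_ge 2 (finrank F E) with h5 | h5
      · exact find_of_two hX h4 h5 D
      · exact find_of_quad hX h4 (le_antisymm h5 hr.two_le) D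
  obtain ⟨φ, a, ha, hφ, hφa, h⟩ := hT
  exact all_of_one hX hr.two_le hm ha hφ hφa h

omit [Finite F] [Module.Finite E V] in
/-- some `F`-transvection is not `E`-semilinear -/
theorem exists_rk_not_semilinear (hr : 2 ≤ finrank F E) (hm : 2 ≤ finrank E V) :
    ∃ (φ : V →ₗ[F] F) (a : V), φ a = 0 ∧ ∀ g : V ≃ₗ[F] V, (∀ v, g v = v + rk φ a v) →
      ∃ e : E, ∀ e' : E, ∃ v, g (e • v) ≠ e' • g v := by
  have hnt : Nontrivial V := by
    by_contra hcon
    rw [not_nontrivial_iff_subsingleton] at hcon
    have : finrank E V = 0 := finrank_zero_of_subsingleton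
    omega
  obtain ⟨a, ha⟩ := exists_ne (0 : V)
  obtain ⟨b, hb⟩ := exists_notMem_span (E := E) hm a
  -- `e ∉ F`
  obtain ⟨e, he⟩ : ∃ e : E, e ∉ Submodule.span F {(1 : E)} := by
    by_contra hcon
    push Not at hcon
    have h1 : Submodule.span F {(1 : E)} = ⊤ := eq_top_iff.mpr fun v _ => hcon v
    have h2 : finrank F (Submodule.span F {(1 : E)}) = 1 := finrank_span_singleton one_ne_zero
    rw [h1, finrank_top] at h2
    omega
  have hea : e • a ∉ Submodule.span F {a} := by
    intro h
    apply he
    rw [Submodule.mem_span_singleton] at h ⊢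
    obtain ⟨c, hc⟩ := h
    refine ⟨c, ?_⟩
    rw [Algebra.smul_def, mul_one]
    have h1 : (algebraMap F E c - e) • a = 0 := by rw [sub_smul, algebraMap_smul, hc, sub_self]
    exact sub_eq_zero.mp ((smul_eq_zero.mp h1).resolve_right ha)
  obtain ⟨φ, hφa, hφea⟩ := exists_functional (E := F) hea
  refine ⟨φ, a, hφa, fun g hg => ⟨e, fun e' => ?_⟩⟩
  by_contra hcon
  push Not at hcon
  have h1 := hcon a
  rw [hg, hg, rk_apply, rk_apply, hφea, hφa, zero_smul, add_zero, one_smul] at h1
  have h2 := hcon b
  rw [hg, hg, rk_apply, rk_apply] at h2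
  -- `e • b + φ(e b) a = e' • b + e' φ(b) a`
  have h3 : e' = e + 1 := by
    have h4 : (e' - (e + 1)) • a = 0 := by
      rw [sub_smul, add_smul, one_smul, ← h1, sub_self]
    exact sub_eq_zero.mp ((smul_eq_zero.mp h4).resolve_right ha)
  rw [h3] at h2
  apply hb
  rw [Submodule.mem_span_singleton]
  refine ⟨algebraMap F E (φ (e • b)) - (e + 1) * algebraMap F E (φ b), ?_⟩
  rw [sub_smul, mul_smul, algebraMap_smul, algebraMap_smul]
  rw [smul_add, add_smul, one_smul] at h2
  have h5 : φ (e • b) • a = (e • b + φ (e • b) • a) - e • b := by abel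
  rw [h5, h2]
  abel

end Main

end Cfsg.Agent.H935
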