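import Cfsg.Agent.H935.ExtTrans

/-!
# Two images of `E`-lines meeting in a hyperplane (helper935)
-/

set_option autoImplicit false

namespace Cfsg.Agent.H935

open Module

section Pair

variable {F E V : Type*} [Field F] [Field E] [Algebra F E] [AddCommGroup V] [Module F V] [Module E V]
  [IsScalarTower F E V]

variable (F E) in
/-- the `E`-line through `u`, as an `F`-subspace -/
def Ln (u : V) : Submodule F V := (Submodule.span E {u}).restrictScalars F

theorem mem_Ln {u v : V} : v ∈ Ln F E u ↔ ∃ e : E, e • u = v := by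
  rw [Ln, Submodule.restrictScalars_mem, Submodule.mem_span_singleton]

theorem smul_mem_Ln {u v : V} (e : E) (h : v ∈ Ln F E u) : e • v ∈ Ln F E u := by
  rw [mem_Ln] at *
  obtain ⟨s, rfl⟩ := h
  exact ⟨e * s, by rw [mul_smul]⟩

theorem self_mem_Ln (u : V) : u ∈ Ln F E u := mem_Ln.mpr ⟨1, one_smul _ _⟩

theorem finrank_Ln [FiniteDimensional F E] {u : V} (hu : u ≠ 0) : finrank F (Ln F E u) = finrank F E := by
  have e : E ≃ₗ[F] Ln F E u :=
    (LinearEquiv.toSpanNonzeroSingleton E V u hu).restrictScalars F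
  exact e.finrank_eq.symm

/-- `κ P ≤ P` only for `κ ∈ F` when `0 < P < E u` -/
theorem stab_eq_bot [FiniteDimensional F E] (hr : (finrank F E).Prime) {u : V} {P : Submodule F V}
    (hP : P ≤ Ln F E u) (hne : P ≠ ⊥) (hne' : P ≠ Ln F E u) {κ : E} (hκ : ∀ p ∈ P, κ • p ∈ P) :
    ∃ c : F, algebraMap F E c = κ := by
  let S : Subalgebra F E :=
    { carrier := {κ | ∀ p ∈ P, κ • p ∈ P}
      mul_mem' := by
        intro a b ha hb p hp
        rw [mul_smul]
        exact ha _ (hb p hp)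
      one_mem' := by intro p hp; rwa [one_smul]
      add_mem' := by
        intro a b ha hb p hp
        rw [add_smul]
        exact P.add_mem (ha p hp) (hb p hp)
      zero_mem' := by intro p _; rw [zero_smul]; exact P.zero_mem
      algebraMap_mem' := by
        intro c p hp
        rw [algebraMap_smul]
        exact P.smul_mem c hp }
  have hsimple := Subalgebra.isSimpleOrder_of_finrank_prime F E hr
  rcases hsimple.eq_bot_or_eq_top S with h | h
  · have h1 : κ ∈ S := hκ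
    rw [h, Algebra.mem_bot] at h1
    exact h1
  · exfalso
    obtain ⟨p, hp, hp0⟩ := Submodule.exists_mem_ne_zero_of_ne_bot hne
    apply hne'
    apply le_antisymm hP
    intro v hv
    obtain ⟨s, hs⟩ := mem_Ln.mp (hP hp)
    obtain ⟨t, ht⟩ := mem_Ln.mp hv
    have hs0 : s ≠ 0 := by rintro rfl; rw [zero_smul] at hs; exact hp0 hs.symm
    have h1 : t * s⁻¹ ∈ S := by rw [h]; trivial
    have h2 := h1 p hp
    rw [← hs, smul_smul, inv_mul_cancel_right₀ hs0, ht] at h2
    exact h2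

variable [Finite F] [FiniteDimensional F E] [Module.Finite E V] {X : Subgroup (V ≃ₗ[F] V)}

/-- the data: two images of `E`-lines meeting in a hyperplane of both -/
structure PairData (X : Subgroup (V ≃ₗ[F] V)) (u u' : V) (g : V ≃ₗ[F] V) : Prop where
  u_ne : u ≠ 0
  u'_ne : u' ≠ 0
  mem : g ∈ X
  inf_ne : Ln F E u ⊓ (Ln F E u').map (g : V →ₗ[F] V) ≠ ⊥
  ne : (Ln F E u').map (g : V →ₗ[F] V) ≠ Ln F E u
  left : ∀ x ∈ (Ln F E u').map (g : V →ₗ[F] V), x ∉ Ln F E u → ∀ x' ∈ (Ln F E u').map (g : V →ₗ[F] V),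
    ∃ c : F, x' - c • x ∈ Ln F E u
  right : ∀ y ∈ Ln F E u, y ∉ (Ln F E u').map (g : V →ₗ[F] V) → ∀ y' ∈ Ln F E u,
    ∃ c : F, y' - c • y ∈ (Ln F E u').map (g : V →ₗ[F] V)
  finrank_inf : finrank F ↥(Ln F E u ⊓ (Ln F E u').map (g : V →ₗ[F] V)) + 1 = finrank F E

omit [Finite F] [FiniteDimensional F E] [Module.Finite E V] in
/-- maximal choice -/
theorem exists_max_pair [FiniteDimensional F V]
    (h : ∃ (u u' : V) (g : V ≃ₗ[F] V), u ≠ 0 ∧ u' ≠ 0 ∧ g ∈ X ∧ (Ln F E u').map (g : V →ₗ[F] V) ≠ Ln F E u ∧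
      1 ≤ finrank F ↥(Ln F E u ⊓ (Ln F E u').map (g : V →ₗ[F] V))) :
    ∃ (u u' : V) (g : V ≃ₗ[F] V), u ≠ 0 ∧ u' ≠ 0 ∧ g ∈ X ∧ (Ln F E u').map (g : V →ₗ[F] V) ≠ Ln F E u ∧
      1 ≤ finrank F ↥(Ln F E u ⊓ (Ln F E u').map (g : V →ₗ[F] V)) ∧
      ∀ (w w' : V) (k : V ≃ₗ[F] V), w ≠ 0 → w' ≠ 0 → k ∈ X → (Ln F E w').map (k : V →ₗ[F] V) ≠ Ln F E w →
        finrank F ↥(Ln F E w ⊓ (Ln F E w').map (k : V →ₗ[F] V)) ≤
          finrank F ↥(Ln F E u ⊓ (Ln F E u').map (g : V →ₗ[F] V)) := by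
  let S : Set ℕ := {d | ∃ (u u' : V) (g : V ≃ₗ[F] V), u ≠ 0 ∧ u' ≠ 0 ∧ g ∈ X ∧
    (Ln F E u').map (g : V →ₗ[F] V) ≠ Ln F E u ∧ finrank F ↥(Ln F E u ⊓ (Ln F E u').map (g : V →ₗ[F] V)) = d}
  have hbdd : BddAbove S := by
    refine ⟨finrank F V, ?_⟩
    rintro d ⟨u, u', g, _, _, _, _, rfl⟩
    exact Submodule.finrank_le _
  obtain ⟨u₀, u₀', g₀, h1, h2, h3, h4, h5⟩ := h
  have hne : S.Nonempty := ⟨_, u₀, u₀', g₀, h1, h2, h3, h4, rfl⟩
  obtain ⟨u, u', g, k1, k2, k3, k4, k5⟩ := Nat.sSup_mem hne hbdd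
  refine ⟨u, u', g, k1, k2, k3, k4, ?_, ?_⟩
  · rw [k5]
    exact h5.trans (le_csSup hbdd ⟨u₀, u₀', g₀, h1, h2, h3, h4, rfl⟩)
  · intro w w' k m1 m2 m3 m4
    rw [k5]
    exact le_csSup hbdd ⟨w, w', k, m1, m2, m3, m4, rfl⟩

/-- the main step: the maximal pair meets in a hyperplane -/
theorem exists_pairData (hX : ContainsN F E V X) (hr : (finrank F E).Prime)
    (h : ∃ (u u' : V) (g : V ≃ₗ[F] V), u ≠ 0 ∧ u' ≠ 0 ∧ g ∈ X ∧ (Ln F E u').map (g : V →ₗ[F] V) ≠ Ln F E u ∧
      1 ≤ finrank F ↥(Ln F E u ⊓ (Ln F E u').map (g : V →ₗ[F] V))) :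
    ∃ (u u' : V) (g : V ≃ₗ[F] V), PairData (E := E) X u u' g := by
  have hFV : FiniteDimensional F V := Module.Finite.trans E V
  obtain ⟨u, u', g, hu, hu', hg, hne, h1, hmax⟩ := exists_max_pair h
  set L := Ln F E u with hL
  set L' := (Ln F E u').map (g : V →ₗ[F] V) with hL'
  set P := L ⊓ L' with hP
  have hPL : P ≤ L := inf_le_left
  have hPL' : P ≤ L' := inf_le_right
  have hψL : ∀ ψ : V →ₗ[E] E, ψ u = 0 → ∀ v ∈ L, ψ v = 0 := by
    intro ψ hψ v hv
    obtain ⟨e, rfl⟩ := mem_Ln.mp hv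
    simp [hψ]
  have hPne : P ≠ ⊥ := by
    intro h0
    rw [h0] at h1
    simp at h1
  have hdimL : finrank F L = finrank F E := finrank_Ln hu
  have hdimL' : finrank F L' = finrank F E := by
    rw [hL', LinearEquiv.finrank_map_eq, finrank_Ln hu']
  have hPneL : P ≠ L := by
    intro h0
    have h2 : L ≤ L' := by rw [← h0]; exact hPL'
    exact hne (Submodule.eq_of_le_of_finrank_eq h2 (by rw [hdimL, hdimL'])).symm
  -- (**)
  have key : ∀ ψ : V →ₗ[E] E, ψ u = 0 → ∀ x ∈ L', ψ x ≠ 0 → ∀ x' ∈ L', ∀ p ∈ P, (ψ x' * (ψ x)⁻¹) • p ∈ P := by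
    intro ψ hψ x hx hψx x' hx' p hp
    have hψp : ψ ((ψ x)⁻¹ • p) = 0 := by
      rw [map_smul, hψL ψ hψ p (hPL hp), smul_zero]
    obtain ⟨t, ht, ht'⟩ := has_erk hX hψp
    have htP : ∀ v ∈ P, t v = v := by
      intro v hv
      rw [ht', erk_apply, hψL ψ hψ v (hPL hv), zero_smul, add_zero]
    have htx : t x = x + p := by
      rw [ht', erk_apply, smul_smul, mul_inv_cancel₀ hψx, one_smul]
    have hmap : L'.map (t : V →ₗ[F] V) = L' := by
      by_contra hcon
      have h2 : (Ln F E u').map ((g⁻¹ * t * g : V ≃ₗ[F] V) : V →ₗ[F] V) ≠ Ln F E u' := by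
        intro h3
        apply hcon
        have h4 : L'.map (t : V →ₗ[F] V) =
            ((Ln F E u').map ((g⁻¹ * t * g : V ≃ₗ[F] V) : V →ₗ[F] V)).map (g : V →ₗ[F] V) := by
          rw [hL', ← Submodule.map_comp, ← Submodule.map_comp]
          congr 1
          ext v
          change t (g v) = g (g.symm (t (g v)))
          simp
        rw [h4, h3]
      have h3 := hmax u' u' (g⁻¹ * t * g) hu' hu' (X.mul_mem (X.mul_mem (X.inv_mem hg) ht) hg) h2
      -- the larger subspace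
      let Q : Submodule F V := P ⊔ Submodule.span F {x + p}
      have hPQ : P < Q := by
        refine lt_of_le_of_ne le_sup_left ?_
        intro h4
        have h5 : x + p ∈ P := by
          rw [h4]
          exact Submodule.mem_sup_right (Submodule.mem_span_singleton_self _)
        have h6 := hψL ψ hψ _ (hPL h5)
        rw [map_add, hψL ψ hψ p (hPL hp), add_zero] at h6
        exact hψx h6
      have hQ1 : Q ≤ L' := by
        refine sup_le hPL' ?_
        rw [Submodule.span_singleton_le_iff_mem]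
        exact L'.add_mem hx (hPL' hp)
      have hQ2 : Q ≤ L'.map (t : V →ₗ[F] V) := by
        refine sup_le ?_ ?_
        · intro v hv
          exact ⟨v, hPL' hv, htP v hv⟩
        · rw [Submodule.span_singleton_le_iff_mem]
          exact ⟨x, hx, htx⟩
      have hQ3 : Q.map ((g⁻¹ : V ≃ₗ[F] V) : V →ₗ[F] V) ≤
          Ln F E u' ⊓ (Ln F E u').map ((g⁻¹ * t * g : V ≃ₗ[F] V) : V →ₗ[F] V) := by
        rintro _ ⟨v, hv, rfl⟩
        refine ⟨?_, ?_⟩
        · obtain ⟨w, hw, hw'⟩ := hQ1 hv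
          have : ((g⁻¹ : V ≃ₗ[F] V) : V →ₗ[F] V) v = w := by
            rw [← hw']
            change g.symm (g w) = w
            simp
          rw [this]
          exact hw
        · obtain ⟨_, ⟨w, hw, rfl⟩, hw'⟩ := hQ2 hv
          refine ⟨w, hw, ?_⟩
          rw [← hw']
          rfl
      have h4 := Submodule.finrank_lt_finrank_of_lt hPQ
      have h5 := Submodule.finrank_mono hQ3
      rw [LinearEquiv.finrank_map_eq] at h5
      omega
    have htx' : t x' ∈ L' := by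
      rw [← hmap]
      exact ⟨x', hx', rfl⟩
    rw [ht', erk_apply, smul_smul] at htx'
    refine ⟨smul_mem_Ln _ (hPL hp), ?_⟩
    have := L'.sub_mem htx' hx'
    rwa [add_sub_cancel_left] at this
  have key2 : ∀ ψ : V →ₗ[E] E, ψ u = 0 → ∀ x ∈ L', ψ x ≠ 0 → ∀ x' ∈ L', ∃ c : F, ψ x' = algebraMap F E c * ψ x := by
    intro ψ hψ x hx hψx x' hx'
    obtain ⟨c, hc⟩ := stab_eq_bot hr hPL hPne hPneL (κ := ψ x' * (ψ x)⁻¹) (key ψ hψ x hx hψx x' hx')
    exact ⟨c, by rw [hc, inv_mul_cancel_right₀ hψx]⟩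
  -- an element outside `F`
  obtain ⟨κ, hκ⟩ : ∃ κ : E, ∀ c : F, algebraMap F E c ≠ κ := by
    by_contra hcon
    push Not at hcon
    have h2 : Function.Surjective (algebraMap F E) := hcon
    have h3 : (⊥ : Subalgebra F E) = ⊤ := by
      rw [eq_top_iff]
      intro x _
      rw [Algebra.mem_bot]
      exact h2 x
    have h4 := Subalgebra.bot_eq_top_iff_finrank_eq_one.mp h3
    rw [h4] at hr
    exact Nat.not_prime_one hr
  have left : ∀ x ∈ L', x ∉ L → ∀ x' ∈ L', ∃ c : F, x' - c • x ∈ L := by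
    intro x hx hxL x' hx'
    have hxL' : x ∉ Submodule.span E {u} := hxL
    obtain ⟨ψ, hψ1, hψ2⟩ := exists_functional hxL'
    obtain ⟨c, hc⟩ := key2 ψ hψ1 x hx (by rw [hψ2]; exact one_ne_zero) x' hx'
    rw [hψ2, mul_one] at hc
    refine ⟨c, ?_⟩
    by_contra hcon
    set z := x' - c • x with hz
    have hzL' : z ∈ L' := L'.sub_mem hx' (L'.smul_mem c hx)
    have hψz : ψ z = 0 := by
      rw [hz, map_sub, hc]
      have : c • x = (algebraMap F E c) • x := by rw [algebraMap_smul]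
      rw [this, map_smul, hψ2, smul_eq_mul, mul_one, sub_self]
    obtain ⟨ψ', h1', h2'⟩ := exists_functional (E := E) (u := u) (v := z) hcon
    obtain ⟨c', hc'⟩ := key2 ψ' h1' z hzL' (by rw [h2']; exact one_ne_zero) x hx
    rw [h2', mul_one] at hc'
    have hκ0 : κ ≠ 0 := fun h0 => hκ 0 (by rw [map_zero, h0])
    obtain ⟨c'', hc''⟩ := key2 (ψ + κ • ψ') (by simp [hψ1, h1']) z hzL' (by simp [hψz, h2', hκ0]) x hx
    simp only [LinearMap.add_apply, LinearMap.smul_apply, smul_eq_mul, hψ2, hψz, h2', hc', mul_one, zero_add] at hc''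
    -- `1 + κ c' = c'' κ`
    have h3 : κ * algebraMap F E (c'' - c') = 1 := by
      rw [map_sub]
      linear_combination -hc''
    have h4 : c'' - c' ≠ 0 := by
      intro h0
      rw [h0, map_zero, mul_zero] at h3
      exact zero_ne_one h3
    apply hκ (c'' - c')⁻¹
    rw [map_inv₀]
    exact (eq_inv_of_mul_eq_one_left h3).symm
  -- dimension of `P`
  obtain ⟨x, hx, hxL⟩ : ∃ x ∈ L', x ∉ L := by
    by_contra hcon
    push Not at hcon
    exact hne (Submodule.eq_of_le_of_finrank_eq hcon (by rw [hdimL, hdimL']))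
  have hdimP : finrank F E ≤ finrank F P + 1 := by
    have h2 : L' ≤ P ⊔ Submodule.span F {x} := by
      intro x' hx'
      obtain ⟨c, hc⟩ := left x hx hxL x' hx'
      have : x' = (x' - c • x) + c • x := by abel
      rw [this]
      refine Submodule.add_mem_sup ⟨hc, ?_⟩ ?_
      · exact L'.sub_mem hx' (L'.smul_mem c hx)
      · exact Submodule.smul_mem _ _ (Submodule.mem_span_singleton_self x)
    have h3 := Submodule.finrank_mono h2
    have h4 := Submodule.finrank_add_le_finrank_add_finrank P (Submodule.span F {x})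
    have h5 : finrank F (Submodule.span F {x}) ≤ 1 := by
      refine (finrank_span_le_card ({x} : Set V)).trans ?_
      simp
    rw [hdimL'] at h3
    omega
  have hdimP2 : finrank F P < finrank F E := by
    rw [← hdimL]
    exact Submodule.finrank_lt_finrank_of_lt (lt_of_le_of_ne hPL hPneL)
  refine ⟨u, u', g, hu, hu', hg, hPne, hne, left, ?_, by change finrank F P + 1 = _; omega⟩
  intro y hy hyL' y' hy'
  have h2 : P < P ⊔ Submodule.span F {y} := by
    refine lt_of_le_of_ne le_sup_left ?_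
    intro h4
    apply hyL'
    apply hPL'
    rw [h4]
    exact Submodule.mem_sup_right (Submodule.mem_span_singleton_self _)
  have h3 : P ⊔ Submodule.span F {y} ≤ L := by
    refine sup_le hPL ?_
    rw [Submodule.span_singleton_le_iff_mem]
    exact hy
  have h4 : P ⊔ Submodule.span F {y} = L := by
    refine Submodule.eq_of_le_of_finrank_le h3 ?_
    have := Submodule.finrank_lt_finrank_of_lt h2
    rw [hdimL]
    omega
  have hy'' : y' ∈ L := hy'
  rw [← h4] at hy''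
  obtain ⟨p, hp, s, hs, rfl⟩ := Submodule.mem_sup.mp hy''
  obtain ⟨c, rfl⟩ := Submodule.mem_span_singleton.mp hs
  exact ⟨c, by rw [add_sub_cancel_right]; exact hPL' hp⟩

end Pair

end Cfsg.Agent.H935
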