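import Cfsg.Agent.H935.ExtBasic
import Cfsg.Agent.H935.ExtNorm

/-!
# A subgroup containing the `E`-linear maps of `F`-determinant one and one `F`-transvection contains all
`F`-transvections (helper935)
-/

set_option autoImplicit false

namespace Cfsg.Agent.H935

open Module

section Ext

variable (F E V : Type*) [Field F] [Field E] [Algebra F E] [AddCommGroup V] [Module F V] [Module E V]
  [IsScalarTower F E V]

/-- `X` contains all `E`-linear maps of `F`-determinant one. -/
def ContainsN (X : Subgroup (V ≃ₗ[F] V)) : Prop :=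
  ∀ g : V ≃ₗ[E] V, Algebra.norm F (LinearMap.det (g : V →ₗ[E] V)) = 1 → g.restrictScalars F ∈ X

variable {F E V}

/-- the `E`-rank one map `v ↦ ψ(v) a` -/
def erk (ψ : V →ₗ[E] E) (a : V) : V →ₗ[F] V := (ψ.smulRight a).restrictScalars F

@[simp] theorem erk_apply (ψ : V →ₗ[E] E) (a v : V) : (erk ψ a : V →ₗ[F] V) v = ψ v • a := rfl

/-- the `F`-functional `Tr ∘ ψ` -/
noncomputable def tr (ψ : V →ₗ[E] E) : V →ₗ[F] F := (Algebra.trace F E) ∘ₗ ψ.restrictScalars F

@[simp] theorem tr_apply (ψ : V →ₗ[E] E) (v : V) : (tr ψ : V →ₗ[F] F) v = Algebra.trace F E (ψ v) := rfl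

variable {X : Subgroup (V ≃ₗ[F] V)}

theorem has_erk (hX : ContainsN F E V X) {ψ : V →ₗ[E] E} {a : V} (h : ψ a = 0) : Has X (erk ψ a) := by
  refine ⟨(LinearEquiv.transvection h).restrictScalars F, hX _ ?_, fun v => rfl⟩
  have : (LinearMap.det ((LinearEquiv.transvection h : V ≃ₗ[E] V) : V →ₗ[E] V)) = 1 := by
    rw [← LinearEquiv.coe_det, LinearEquiv.transvection.det_eq_one]; rfl
  rw [this, map_one]

/-- the `E`-linear dilatation `v ↦ v + ψ(v) (δ - 1) x`, `ψ x = 1` -/
theorem exists_dil [FiniteDimensional F E] [Module.Finite E V] (hX : ContainsN F E V X) {ψ : V →ₗ[E] E} {x : V} (hx : ψ x = 1) {δ : E}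
    (hδ : Algebra.norm F δ = 1) :
    ∃ n ∈ X, (∀ v, n v = v + ψ v • ((δ - 1) • x)) ∧ ∀ v, (n⁻¹ : V ≃ₗ[F] V) v = v + ψ v • ((δ⁻¹ - 1) • x) := by
  have hδ0 : δ ≠ 0 := by
    rintro rfl
    rw [Algebra.norm_zero] at hδ
    exact zero_ne_one hδ
  let n : V ≃ₗ[E] V :=
    { toFun := fun v => v + ψ v • ((δ - 1) • x)
      map_add' := by intro v w; simp only [map_add, add_smul]; abel
      map_smul' := by intro c v; simp [smul_smul, mul_assoc]
      invFun := fun v => v + ψ v • ((δ⁻¹ - 1) • x)
      left_inv := by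
        intro v
        simp only [map_add, map_smul, hx, smul_eq_mul, mul_one]
        rw [add_assoc, smul_smul, smul_smul, ← add_smul]
        have : ψ v * (δ - 1) + (ψ v + ψ v * (δ - 1)) * (δ⁻¹ - 1) = 0 := by
          field_simp
          ring
        rw [this, zero_smul, add_zero]
      right_inv := by
        intro v
        simp only [map_add, map_smul, hx, smul_eq_mul, mul_one]
        rw [add_assoc, smul_smul, smul_smul, ← add_smul]
        have : ψ v * (δ⁻¹ - 1) + (ψ v + ψ v * (δ⁻¹ - 1)) * (δ - 1) = 0 := by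
          field_simp
          ring
        rw [this, zero_smul, add_zero] }
  refine ⟨n.restrictScalars F, hX n ?_, fun v => rfl, fun v => rfl⟩
  have h1 : (n : V →ₗ[E] V) = LinearMap.transvection ψ ((δ - 1) • x) := by
    ext v; rfl
  rw [h1, LinearMap.transvection.det]
  simp [hx, hδ]

theorem exists_functional {u v : V} (h : v ∉ Submodule.span E {u}) : ∃ ψ : V →ₗ[E] E, ψ u = 0 ∧ ψ v = 1 := by
  obtain ⟨f, hf, hle⟩ := Submodule.exists_le_ker_of_notMem h
  refine ⟨(f v)⁻¹ • f, ?_, ?_⟩
  · have : f u = 0 := hle (Submodule.mem_span_singleton_self u)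
    simp [this]
  · simp [hf]

theorem exists_functional_one {v : V} (h : v ≠ 0) : ∃ ψ : V →ₗ[E] E, ψ v = 1 := by
  obtain ⟨ψ, _, h⟩ := exists_functional (E := E) (u := (0 : V)) (v := v) (by simpa using h)
  exact ⟨ψ, h⟩

theorem exists_vector {ψ χ : V →ₗ[E] E} (h : ψ ∉ Submodule.span E {χ}) : ∃ b : V, χ b = 0 ∧ ψ b = 1 := by
  by_contra hcon
  push Not at hcon
  have hker : ∀ b, χ b = 0 → ψ b = 0 := by
    intro b hb
    by_contra hne
    exact hcon ((ψ b)⁻¹ • b) (by simp [hb]) (by simp [hne])
  apply h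
  rw [Submodule.mem_span_singleton]
  by_cases hχ : ∃ w, χ w ≠ 0
  · obtain ⟨w, hw⟩ := hχ
    refine ⟨ψ w * (χ w)⁻¹, ?_⟩
    ext v
    have h1 := hker (v - (χ v * (χ w)⁻¹) • w) (by simp [hw])
    simp only [map_sub, map_smul, smul_eq_mul] at h1
    simp only [LinearMap.smul_apply, smul_eq_mul]
    linear_combination -h1
  · push Not at hχ
    refine ⟨0, ?_⟩
    ext v
    simp [hker v (hχ v)]

theorem exists_notMem_span (hm : 2 ≤ finrank E V) (u : V) : ∃ v : V, v ∉ Submodule.span E {u} := by
  by_contra h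
  push Not at h
  have h1 : Submodule.span E {u} = ⊤ := eq_top_iff.mpr fun x _ => h x
  have h2 : finrank E (Submodule.span E {u}) ≤ 1 := by
    refine (finrank_span_le_card ({u} : Set V)).trans ?_
    simp
  rw [h1, finrank_top] at h2
  omega

theorem exists_move (hX : ContainsN F E V X) (hm : 2 ≤ finrank E V) {a b : V} (ha : a ≠ 0) (hb : b ≠ 0) :
    ∃ g ∈ X, g a = b ∧ ∀ (e : E) (v : V), g (e • v) = e • g v := by
  -- the independent case
  have key : ∀ a b : V, a ≠ 0 → b ∉ Submodule.span E {a} →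
      ∃ g ∈ X, g a = b ∧ ∀ (e : E) (v : V), g (e • v) = e • g v := by
    intro a b ha hb
    obtain ⟨ψ₁, h1, h2⟩ := exists_functional hb
    have hab : a ∉ Submodule.span E {b} := by
      intro h
      rw [Submodule.mem_span_singleton] at h
      obtain ⟨c, rfl⟩ := h
      have hc : c ≠ 0 := by rintro rfl; simp at ha
      apply hb
      rw [Submodule.mem_span_singleton]
      exact ⟨c⁻¹, by rw [smul_smul, inv_mul_cancel₀ hc, one_smul]⟩
    obtain ⟨ψ₂, h3, h4⟩ := exists_functional hab
    have h5 : (ψ₁ + ψ₂) (b - a) = 0 := by simp [h1, h2, h3, h4]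
    refine ⟨(LinearEquiv.transvection h5).restrictScalars F, hX _ ?_, ?_, ?_⟩
    · have : (LinearMap.det ((LinearEquiv.transvection h5 : V ≃ₗ[E] V) : V →ₗ[E] V)) = 1 := by
        rw [← LinearEquiv.coe_det, LinearEquiv.transvection.det_eq_one]; rfl
      rw [this, map_one]
    · change a + (ψ₁ + ψ₂) a • (b - a) = b
      simp [h1, h4]
    · intro e v
      exact (LinearEquiv.transvection h5).map_smul e v
  obtain ⟨c, hc⟩ := exists_notMem_span (E := E) hm a
  have hc0 : c ≠ 0 := by rintro rfl; simp at hc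
  obtain ⟨g, hg, hg1, hg2⟩ := key a c ha hc
  by_cases hcb : b ∈ Submodule.span E {a}
  · have hbc : b ∉ Submodule.span E {c} := by
      intro h
      rw [Submodule.mem_span_singleton] at h hcb
      obtain ⟨s, hs⟩ := h
      obtain ⟨t, ht⟩ := hcb
      have hs0 : s ≠ 0 := by rintro rfl; simp at hs; exact hb hs.symm
      apply hc
      rw [Submodule.mem_span_singleton]
      refine ⟨s⁻¹ * t, ?_⟩
      rw [mul_smul, ht, ← hs, smul_smul, inv_mul_cancel₀ hs0, one_smul]
    obtain ⟨k, hk, hk1, hk2⟩ := key c b hc0 hbc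
    refine ⟨k * g, X.mul_mem hk hg, ?_, ?_⟩
    · rw [LinearEquiv.mul_apply, hg1, hk1]
    · intro e v
      rw [LinearEquiv.mul_apply, LinearEquiv.mul_apply, hg2, hk2]
  · exact key a b ha hcb

variable [Finite F] [FiniteDimensional F E]

/-- every `F`-functional is `Tr ∘ ψ` -/
theorem exists_trace_rep (φ : V →ₗ[F] F) : ∃ ψ : V →ₗ[E] E, φ = tr ψ := by
  have hE : Finite E := Module.finite_of_finite F
  have hnd := traceForm_nondegenerate F E
  let lam : V → (E →ₗ[F] F) := fun v => φ ∘ₗ ((LinearMap.toSpanSingleton E V v).restrictScalars F)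
  have hlam : ∀ v e, lam v e = φ (e • v) := fun v e => rfl
  let T := (Algebra.traceForm F E).toDual hnd
  have hT : ∀ a b, T a b = Algebra.trace F E (a * b) := by
    intro a b
    rw [LinearMap.BilinForm.toDual_def]
    rfl
  have hsymm : ∀ (l : E →ₗ[F] F) (b : E), Algebra.trace F E (T.symm l * b) = l b := by
    intro l b
    rw [← hT, LinearEquiv.apply_symm_apply]
  have hinj : ∀ a b : E, (∀ c, Algebra.trace F E (a * c) = Algebra.trace F E (b * c)) → a = b := by
    intro a b h
    apply T.injective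
    ext c
    rw [hT, hT, h]
  refine ⟨{ toFun := fun v => T.symm (lam v), map_add' := ?_, map_smul' := ?_ }, ?_⟩
  · intro v w
    apply hinj
    intro c
    rw [hsymm, add_mul, map_add, hsymm, hsymm, hlam, hlam, hlam, smul_add, map_add]
  · intro e v
    apply hinj
    intro c
    simp only [RingHom.id_apply, smul_eq_mul]
    rw [hsymm, show e * T.symm (lam v) * c = T.symm (lam v) * (c * e) by ring, hsymm, hlam, hlam, mul_smul]
  · ext v
    change φ v = Algebra.trace F E (T.symm (lam v))
    have := hsymm (lam v) 1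
    rw [mul_one] at this
    rw [this, hlam, one_smul]

omit [Finite F] [FiniteDimensional F E] in
/-- conjugating an `F`-transvection by an `E`-transvection fixing the centre -/
theorem Has.tr_sub (hX : ContainsN F E V X) {ψ χ : V →ₗ[E] E} {a b : V} (h : Has X (rk (tr ψ) a)) (hχa : χ a = 0)
    (hχb : χ b = 0) (hψb : ψ b = 1) : Has X (rk (tr (ψ - χ)) a) := by
  obtain ⟨g, hg, hg'⟩ := has_erk hX hχb
  have h1 := h.rk_conj hg
  have h2 : g a = a := by rw [hg', erk_apply, hχa]; simp
  rw [h2] at h1
  refine h1.congr ?_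
  intro v
  have h3 : (g⁻¹ : V ≃ₗ[F] V) v = v - (erk χ b : V →ₗ[F] V) v := by
    apply inv_apply_of hg'
    intro w
    simp [hχb]
  simp only [rk_apply, LinearMap.comp_apply, LinearEquiv.coe_coe, h3]
  simp [hψb]

variable [Module.Finite E V]

/-- property `Z(a)`: all `Tr ∘ χ ⊗ a` with `χ a = 0` -/
theorem z_of_has (hX : ContainsN F E V X) (hr : 2 ≤ finrank F E) {ψ : V →ₗ[E] E} {a : V}
    (hψ : ψ ≠ 0) (htr : Algebra.trace F E (ψ a) = 0) (h : Has X (rk (tr ψ) a)) :
    ∀ χ : V →ₗ[E] E, χ a = 0 → Has X (rk (tr χ) a) := by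
  intro χ hχ
  by_cases hψa : ψ a = 0
  · -- case II
    by_cases hspan : χ ∈ Submodule.span E {ψ}
    · rw [Submodule.mem_span_singleton] at hspan
      obtain ⟨κ, rfl⟩ := hspan
      obtain ⟨x, hx⟩ : ∃ x, ψ x = 1 := by
        by_contra hcon
        push Not at hcon
        apply hψ
        ext v
        by_contra hne
        simp only [LinearMap.zero_apply] at hne
        exact hcon ((ψ v)⁻¹ • v) (by simp [hne])
      let D : AddSubgroup E :=
        { carrier := {κ | Has X (rk (tr (κ • ψ)) a)}
          zero_mem' := by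
            refine ⟨1, X.one_mem, fun v => ?_⟩
            simp
          add_mem' := by
            intro s t hs ht
            refine (Has.rk_add hs ht ?_).congr ?_
            · simp [hψa]
            · intro v; simp [add_mul]
          neg_mem' := by
            intro s hs
            refine (Has.rk_neg hs ?_).congr ?_
            · simp [hψa]
            · intro v; simp }
      have hD : ∀ κ, κ ∈ D ↔ Has X (rk (tr (κ • ψ)) a) := fun κ => Iff.rfl
      have h1 : (1 : E) ∈ D := by
        rw [hD, one_smul]; exact h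
      have h2 : AddSubgroup.closure {δ : E | Algebra.norm F δ = 1} ≤ D := by
        rw [AddSubgroup.closure_le]
        intro δ hδ
        rw [SetLike.mem_coe, hD]
        have hδ' : Algebra.norm F δ⁻¹ = 1 := by
          have hδ1 : Algebra.norm F δ = 1 := hδ
          have : Algebra.norm F (δ * δ⁻¹) = 1 := by
            have h0 : δ ≠ 0 := by
              rintro rfl
              rw [Algebra.norm_zero] at hδ1
              exact zero_ne_one hδ1
            rw [mul_inv_cancel₀ h0, map_one]
          rw [map_mul, hδ1, one_mul] at this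
          exact this
        obtain ⟨n, hn, hn1, hn2⟩ := exists_dil hX hx hδ'
        have h3 := h.rk_conj hn
        have h4 : n a = a := by rw [hn1, hψa]; simp
        rw [h4] at h3
        refine h3.congr ?_
        intro v
        simp only [rk_apply, LinearMap.comp_apply, LinearEquiv.coe_coe, hn2, tr_apply, map_add, map_smul, hx,
          LinearMap.smul_apply, smul_eq_mul, inv_inv]
        rw [← map_add, show ψ v + ψ v * ((δ - 1) * 1) = δ * ψ v by ring]
      rw [closure_norm_one F E hr] at h2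
      exact h2 (AddSubgroup.mem_top κ)
    · -- `χ` and `ψ` independent
      have hψχ : ψ ∉ Submodule.span E {χ} := by
        intro hmem
        rw [Submodule.mem_span_singleton] at hmem
        obtain ⟨c, hc⟩ := hmem
        have hc0 : c ≠ 0 := by
          rintro rfl
          rw [zero_smul] at hc
          exact hψ hc.symm
        apply hspan
        rw [Submodule.mem_span_singleton]
        exact ⟨c⁻¹, by rw [← hc, smul_smul, inv_mul_cancel₀ hc0, one_smul]⟩
      obtain ⟨b, hb1, hb2⟩ := exists_vector hψχ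
      have h1 := h.tr_sub hX hχ hb1 hb2
      refine (h.rk_sub h1 ?_ ?_).congr ?_
      · simp [hψa]
      · simp [hψa, hχ]
      · intro v; simp
  · -- case I
    have h1 : Has X (rk (tr (ψ - χ)) a) := by
      refine h.tr_sub (b := (ψ a)⁻¹ • a) hX hχ ?_ ?_
      · simp [hχ]
      · simp [hψa]
    refine (h.rk_sub h1 ?_ ?_).congr ?_
    · simpa using htr
    · simp [hχ, htr]
    · intro v; simp

/-- one `F`-transvection gives all -/
theorem all_of_one (hX : ContainsN F E V X) (hr : 2 ≤ finrank F E) (hm : 2 ≤ finrank E V) {φ : V →ₗ[F] F} {a : V}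
    (ha : a ≠ 0) (hφ : φ ≠ 0) (hφa : φ a = 0) (h : Has X (rk φ a)) :
    ∀ (φ' : V →ₗ[F] F) (b : V), φ' b = 0 → Has X (rk φ' b) := by
  have hE : Finite E := Module.finite_of_finite F
  -- property Z for all vectors
  have hZ : ∀ b : V, b ≠ 0 → ∀ χ : V →ₗ[E] E, χ b = 0 → Has X (rk (tr χ) b) := by
    obtain ⟨ψ, rfl⟩ := exists_trace_rep (E := E) φ
    have hψ : ψ ≠ 0 := by
      rintro rfl
      apply hφ
      ext v
      simp
    have hz := z_of_has hX hr hψ hφa h
    intro b hb χ hχ
    obtain ⟨g, hg, hg1, hg2⟩ := exists_move hX hm ha hb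
    let χ' : V →ₗ[E] E :=
      { toFun := fun v => χ (g v)
        map_add' := by intro v w; simp
        map_smul' := by intro e v; simp [hg2] }
    have h1 := hz χ' (by change χ (g a) = 0; rw [hg1, hχ])
    have h2 := h1.rk_conj hg
    rw [hg1] at h2
    refine h2.congr ?_
    intro v
    simp only [rk_apply, LinearMap.comp_apply, LinearEquiv.coe_coe, tr_apply]
    have h3 : χ' ((g⁻¹ : V ≃ₗ[F] V) v) = χ v := by
      change χ (g (g.symm v)) = χ v
      simp
    rw [h3]
  intro φ' b hb
  by_cases hb0 : b = 0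
  · subst hb0
    exact ⟨1, X.one_mem, fun v => by simp⟩
  obtain ⟨ψ, rfl⟩ := exists_trace_rep (E := E) φ'
  by_cases hψb : ψ b = 0
  · exact hZ b hb0 ψ hψb
  -- a nonzero vector in the kernel of `ψ`
  obtain ⟨c, hc⟩ := exists_notMem_span (E := E) hm b
  let a' : V := c - (ψ c * (ψ b)⁻¹) • b
  have ha' : ψ a' = 0 := by simp [a', hψb]
  have ha'b : a' ∉ Submodule.span E {b} := by
    intro hmem
    apply hc
    have : c = a' + (ψ c * (ψ b)⁻¹) • b := by simp [a']
    rw [this]
    exact Submodule.add_mem _ hmem (Submodule.smul_mem _ _ (Submodule.mem_span_singleton_self b))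
  have ha'0 : a' ≠ 0 := by
    intro h0
    rw [h0] at ha'b
    exact ha'b (Submodule.zero_mem _)
  obtain ⟨χ₀, hχ1, hχ2⟩ := exists_functional ha'b
  obtain ⟨e, he⟩ := Algebra.trace_surjective F E 1
  have h1 : Has X (rk (tr ψ) a') := hZ a' ha'0 ψ ha'
  have h2 : Has X (rk (tr (e • χ₀)) b) := hZ b hb0 _ (by simp [hχ1])
  have h3 := h1.rk_comm h2 (by simp [ha']) (by simp [hχ1]) hb
  refine h3.congr ?_
  intro v
  simp [hχ2, he]

end Ext

end Cfsg.Agent.H935
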