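import Cfsg.Agent.H935.ExtFind

/-!
# Finding an `F`-transvection: quadratic extension, plane (helper935)
-/

set_option autoImplicit false

namespace Cfsg.Agent.H935

open Module

section Two

variable {F E V : Type*} [Field F] [Field E] [Algebra F E] [AddCommGroup V] [Module F V] [Module E V]
  [IsScalarTower F E V] {X : Subgroup (V ≃ₗ[F] V)}

/-- over the field with two elements every `E`-linear automorphism lies in `X` -/
theorem mem_of_two [FiniteDimensional F E] (hX : ContainsN F E V X) (hF : ∀ s : F, s = 0 ∨ s = 1) (g : V ≃ₗ[E] V) :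
    g.restrictScalars F ∈ X := by
  apply hX
  rcases hF (Algebra.norm F (LinearMap.det (g : V →ₗ[E] V))) with h | h
  · exfalso
    rw [Algebra.norm_eq_zero_iff] at h
    have := (LinearEquiv.det g).ne_zero
    rw [LinearEquiv.coe_det] at this
    exact this h
  · exact h

/-- the endgame over the field with two elements -/
theorem find_of_card_two [FiniteDimensional F E] (hX : ContainsN F E V X) (hF : ∀ s : F, s = 0 ∨ s = 1)
    {p x : V} {ω : E} (hω : ω * ω = ω + 1) {ψ χ : V →ₗ[E] E} (hψp : ψ p = 0) (hψx : ψ x = 1) (hχp : χ p = 1)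
    (hχx : χ x = 0) (hdec : ∀ v, v = χ v • p + ψ v • x)
    (hE : ∀ κ : E, ∃ c c' : F, κ = algebraMap F E c * ω + algebraMap F E c')
    {B B' : V →ₗ[F] V} (hB : Has X B) (hB' : Has X B') {α : F} (b1 : B p = 0) (b2 : B x = 0) (b3 : B (ω • p) = p)
    (b4 : B (ω • x) = x + α • p) (c1 : B' p = 0) (c2 : B' x = 0) (c3 : B' (ω • p) = x)
    (c4 : α = 0 → B' (ω • x) = x + p) : HasTransvection X := by
  have h20 : (1 : F) + 1 = 0 := by
    rcases hF (1 + 1) with h | h
    · exact h
    · exfalso
      have : (1 : F) = 0 := by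
        have h' : (1 : F) + 1 = 1 + 0 := by rw [h, add_zero]
        exact add_left_cancel h'
      exact one_ne_zero this
  have h2 : ∀ v : V, v + v = 0 := by
    intro v
    have : v + v = ((1 : F) + 1) • v := by rw [add_smul, one_smul]
    rw [this, h20, zero_smul]
  have h2' : ∀ v w : V, v + (v + w) = w := by
    intro v w
    rw [← add_assoc, h2, zero_add]
  have hωω : ∀ v : V, ω • ω • v = ω • v + v := by
    intro v
    rw [smul_smul, hω, add_smul, one_smul]
  -- decomposition over `F`
  have hdecF : ∀ v : V, ∃ c1 c2 c3 c4 : F, v = c1 • p + c2 • (ω • p) + c3 • x + c4 • (ω • x) := by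
    intro v
    obtain ⟨c, c', h⟩ := hE (χ v)
    obtain ⟨d, d', h'⟩ := hE (ψ v)
    refine ⟨c', c, d', d, ?_⟩
    conv_lhs => rw [hdec v, h, h']
    rw [add_smul, add_smul, mul_smul, mul_smul, algebraMap_smul, algebraMap_smul, algebraMap_smul, algebraMap_smul]
    abel
  have hp0 : p ≠ 0 := by
    rintro rfl
    rw [map_zero] at hχp
    exact zero_ne_one hχp
  have hω0 : ω ≠ 0 := by
    rintro rfl
    rw [mul_zero, zero_add] at hω
    exact zero_ne_one hω
  rcases hF α with hα | hα
  · -- `α = 0`
    have c4' := c4 hα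
    obtain ⟨t, ht, ht'⟩ := hB'
    let N : V ≃ₗ[E] V := LinearEquiv.ofLinearMap
      (ψ.smulRight (ω • p) + χ.smulRight (ω • x)) (ψ.smulRight (ω⁻¹ • p) + χ.smulRight (ω⁻¹ • x))
      (by
        ext v
        simp only [LinearMap.comp_apply, LinearMap.add_apply, LinearMap.smulRight_apply, map_add, map_smul, hψp, hψx,
          hχp, hχx, smul_eq_mul, mul_zero, mul_one, add_zero, zero_add, LinearMap.id_apply]
        conv_rhs => rw [hdec v]
        have hωω0 : ω * ω ≠ 0 := mul_ne_zero hω0 hω0
        match_scalars <;> field_simp <;> ring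
        )
      (by
        ext v
        simp only [LinearMap.comp_apply, LinearMap.add_apply, LinearMap.smulRight_apply, map_add, map_smul, hψp, hψx,
          hχp, hχx, smul_eq_mul, mul_zero, mul_one, add_zero, zero_add, LinearMap.id_apply]
        conv_rhs => rw [hdec v]
        have hωω0 : ω * ω ≠ 0 := mul_ne_zero hω0 hω0
        match_scalars <;> field_simp <;> ring
        )
    let N' : V ≃ₗ[E] V := LinearEquiv.ofLinearMap
      (χ.smulRight (ω • p) + ψ.smulRight ((ω * ω) • x)) (χ.smulRight (ω⁻¹ • p) + ψ.smulRight ((ω * ω)⁻¹ • x))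
      (by
        ext v
        simp only [LinearMap.comp_apply, LinearMap.add_apply, LinearMap.smulRight_apply, map_add, map_smul, hψp, hψx,
          hχp, hχx, smul_eq_mul, mul_zero, mul_one, add_zero, zero_add, LinearMap.id_apply]
        conv_rhs => rw [hdec v]
        have hωω0 : ω * ω ≠ 0 := mul_ne_zero hω0 hω0
        match_scalars <;> field_simp <;> ring
        )
      (by
        ext v
        simp only [LinearMap.comp_apply, LinearMap.add_apply, LinearMap.smulRight_apply, map_add, map_smul, hψp, hψx,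
          hχp, hχx, smul_eq_mul, mul_zero, mul_one, add_zero, zero_add, LinearMap.id_apply]
        conv_rhs => rw [hdec v]
        have hωω0 : ω * ω ≠ 0 := mul_ne_zero hω0 hω0
        match_scalars <;> field_simp <;> ring
        )
    set n : V ≃ₗ[F] V := N.restrictScalars F with hn
    set n' : V ≃ₗ[F] V := N'.restrictScalars F with hn'
    have hnX : n ∈ X := mem_of_two hX hF N
    have hnX' : n' ∈ X := mem_of_two hX hF N'
    have hn1 : ∀ v, n v = ψ v • (ω • p) + χ v • (ω • x) := fun v => rfl
    have hn2 : ∀ v, n' v = χ v • (ω • p) + ψ v • ((ω * ω) • x) := fun v => rfl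
    have n1 : n p = ω • x := by rw [hn1, hψp, hχp]; simp
    have n2 : n (ω • p) = ω • x + x := by rw [hn1]; simp [hψp, hχp, hωω]
    have n3 : n x = ω • p := by rw [hn1, hψx, hχx]; simp
    have n4 : n (ω • x) = ω • p + p := by rw [hn1]; simp [hψx, hχx, hωω]
    have m1 : n' p = ω • p := by rw [hn2, hψp, hχp]; simp
    have m2 : n' (ω • p) = ω • p + p := by rw [hn2]; simp [hψp, hχp, hωω]
    have m3 : n' x = ω • x + x := by rw [hn2, hψx, hχx]; simp [mul_smul, hωω]
    have m4 : n' (ω • x) = x := by
      rw [hn2]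
      simp only [map_smul, hψx, hχx, smul_eq_mul, mul_zero, zero_smul, mul_one, zero_add]
      rw [hω, add_smul, one_smul, smul_add, hωω]
      simp [add_left_comm, add_comm, h2, h2']
    have t1 : t p = p := by rw [ht', c1, add_zero]
    have t2 : t (ω • p) = ω • p + x := by rw [ht', c3]
    have t3 : t x = x := by rw [ht', c2, add_zero]
    have t4 : t (ω • x) = ω • x + (x + p) := by rw [ht', c4']
    set M : V ≃ₗ[F] V := t * n * t * n' with hM
    have hMX : M ∈ X := X.mul_mem (X.mul_mem (X.mul_mem ht hnX) ht) hnX'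
    have hMv : ∀ v, M v = t (n (t (n' v))) := fun v => rfl
    have M1 : M p = p + (ω • p + (x + ω • x)) := by
      simp only [hMv, m1, m2, m3, m4, n1, n2, n3, n4, t1, t2, t3, t4, map_add]
      simp [add_left_comm, add_comm, add_assoc, h2, h2']
    have M2 : M (ω • p) = ω • p := by
      simp only [hMv, m1, m2, m3, m4, n1, n2, n3, n4, t1, t2, t3, t4, map_add]
      simp [add_left_comm, add_comm, add_assoc, h2, h2']
    have M3 : M x = x + (ω • p + (x + ω • x)) := by
      simp only [hMv, m1, m2, m3, m4, n1, n2, n3, n4, t1, t2, t3, t4, map_add]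
      simp [add_left_comm, add_comm, add_assoc, h2, h2']
    have M4 : M (ω • x) = ω • x + (ω • p + (x + ω • x)) := by
      simp only [hMv, m1, m2, m3, m4, n1, n2, n3, n4, t1, t2, t3, t4, map_add]
      simp [add_left_comm, add_comm, add_assoc, h2, h2']
    set a : V := ω • p + (x + ω • x) with ha
    have ha0 : a ≠ 0 := by
      intro h0
      have h3 : χ a = 0 := by rw [h0, map_zero]
      rw [ha] at h3
      simp [hχp, hχx] at h3
      exact hω0 h3
    let T : V →ₗ[F] V := (M : V →ₗ[F] V) - LinearMap.id
    have hTv : ∀ v, T v = M v - v := fun v => rfl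
    have hT : Has X T := ⟨M, hMX, fun v => by rw [hTv]; abel⟩
    have T1 : T p = a := by rw [hTv, M1]; abel
    have T2 : T (ω • p) = 0 := by rw [hTv, M2, sub_self]
    have T3 : T x = a := by rw [hTv, M3]; abel
    have T4 : T (ω • x) = a := by rw [hTv, M4]; abel
    refine hasTransvection_of ha0 ?_ hT ?_ (v := p) (by rw [T1]; exact ha0)
    · intro v
      obtain ⟨c1, c2, c3, c4, h⟩ := hdecF v
      refine ⟨c1 + c3 + c4, ?_⟩
      rw [h, map_add, map_add, map_add, T.map_smul, T.map_smul, T.map_smul, T.map_smul, T1, T2, T3, T4, smul_zero,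
        add_smul, add_smul, add_zero]
    · rw [ha, map_add, map_add, T2, T3, T4, zero_add]
      exact h2 a
  · -- `α = 1`
    subst hα
    rw [one_smul] at b4
    obtain ⟨t, ht, ht'⟩ := hB
    let N : V ≃ₗ[E] V := LinearEquiv.ofLinearMap
      (χ.smulRight p + ψ.smulRight (ω • x)) (χ.smulRight p + ψ.smulRight (ω⁻¹ • x))
      (by
        ext v
        simp only [LinearMap.comp_apply, LinearMap.add_apply, LinearMap.smulRight_apply, map_add, map_smul, hψp, hψx,
          hχp, hχx, smul_eq_mul, mul_zero, mul_one, add_zero, zero_add, LinearMap.id_apply]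
        conv_rhs => rw [hdec v]
        have hωω0 : ω * ω ≠ 0 := mul_ne_zero hω0 hω0
        match_scalars <;> field_simp <;> ring
        )
      (by
        ext v
        simp only [LinearMap.comp_apply, LinearMap.add_apply, LinearMap.smulRight_apply, map_add, map_smul, hψp, hψx,
          hχp, hχx, smul_eq_mul, mul_zero, mul_one, add_zero, zero_add, LinearMap.id_apply]
        conv_rhs => rw [hdec v]
        have hωω0 : ω * ω ≠ 0 := mul_ne_zero hω0 hω0
        match_scalars <;> field_simp <;> ring
        )
    set n : V ≃ₗ[F] V := N.restrictScalars F with hn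
    have hnX : n ∈ X := mem_of_two hX hF N
    have hn1 : ∀ v, n v = χ v • p + ψ v • (ω • x) := fun v => rfl
    have n1 : n p = p := by rw [hn1, hψp, hχp]; simp
    have n2 : n (ω • p) = ω • p := by rw [hn1]; simp [hψp, hχp]
    have n3 : n x = ω • x := by rw [hn1, hψx, hχx]; simp
    have n4 : n (ω • x) = ω • x + x := by rw [hn1]; simp [hψx, hχx, hωω]
    have t1 : t p = p := by rw [ht', b1, add_zero]
    have t2 : t (ω • p) = ω • p + p := by rw [ht', b3]
    have t3 : t x = x := by rw [ht', b2, add_zero]
    have t4 : t (ω • x) = ω • x + (x + p) := by rw [ht', b4]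
    set M : V ≃ₗ[F] V := t * n * t * n with hM
    have hMX : M ∈ X := X.mul_mem (X.mul_mem (X.mul_mem ht hnX) ht) hnX
    have hMv : ∀ v, M v = t (n (t (n v))) := fun v => rfl
    have M1 : M p = p := by rw [hMv, n1, t1, n1, t1]
    have M2 : M (ω • p) = ω • p := by
      simp only [hMv, n1, n2, n3, n4, t1, t2, t3, t4, map_add]
      simp [add_left_comm, add_comm, add_assoc, h2, h2']
    have M3 : M x = x + p := by
      simp only [hMv, n1, n2, n3, n4, t1, t2, t3, t4, map_add]
      simp [add_left_comm, add_comm, add_assoc, h2, h2']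
    have M4 : M (ω • x) = ω • x := by
      simp only [hMv, n1, n2, n3, n4, t1, t2, t3, t4, map_add]
      simp [add_left_comm, add_comm, add_assoc, h2, h2']
    let T : V →ₗ[F] V := (M : V →ₗ[F] V) - LinearMap.id
    have hTv : ∀ v, T v = M v - v := fun v => rfl
    have hT : Has X T := ⟨M, hMX, fun v => by rw [hTv]; abel⟩
    have T1 : T p = 0 := by rw [hTv, M1, sub_self]
    have T2 : T (ω • p) = 0 := by rw [hTv, M2, sub_self]
    have T3 : T x = p := by rw [hTv, M3]; abel
    have T4 : T (ω • x) = 0 := by rw [hTv, M4, sub_self]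
    refine hasTransvection_of hp0 ?_ hT T1 (v := x) (by rw [T3]; exact hp0)
    intro v
    obtain ⟨c1, c2, c3, c4, h⟩ := hdecF v
    refine ⟨c3, ?_⟩
    rw [h, map_add, map_add, map_add, T.map_smul, T.map_smul, T.map_smul, T.map_smul, T1, T2, T3, T4, smul_zero,
      smul_zero, smul_zero, zero_add, add_zero, zero_add]

end Two

end Cfsg.Agent.H935
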