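import Mathlib

/-!
# Maximal subgroups of subgroups of prime index

Reduction of the statement "a maximal subgroup of a subgroup of prime index is a second maximal
subgroup" to the statement on faithful transitive permutation groups of prime degree (S5898).
-/

set_option autoImplicit false


namespace Cfsg.Agent.H935.PrimeIdx

universe u

theorem isCoatom_comap_iff {G G' : Type*} [Group G] [Group G'] (g : G →* G')
    (hg : Function.Surjective g) (B : Subgroup G') : IsCoatom (B.comap g) ↔ IsCoatom B := by
  refine ⟨fun h => ⟨?_, ?_⟩, fun h => Subgroup.isCoatom_comap_of_surjective hg h⟩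
  · rintro rfl
    exact h.1 (Subgroup.comap_top g)
  · intro C hC
    have h1 : B.comap g < C.comap g := by
      refine lt_of_le_of_ne (Subgroup.comap_mono hC.le) ?_
      intro he
      exact hC.ne (Subgroup.comap_injective hg he)
    have h2 := h.2 _ h1
    rw [← Subgroup.comap_top g] at h2
    exact Subgroup.comap_injective hg h2

/-- Transport of `IsCoatom (H.subgroupOf A)` along a surjective homomorphism. -/
theorem isCoatom_subgroupOf_comap_iff {G G' : Type*} [Group G] [Group G'] (g : G →* G')
    (hg : Function.Surjective g) (H' A' : Subgroup G') :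
    IsCoatom ((H'.comap g).subgroupOf (A'.comap g)) ↔ IsCoatom (H'.subgroupOf A') := by
  have h1 : (H'.comap g).subgroupOf (A'.comap g) =
      (H'.subgroupOf A').comap (g.subgroupComap A') := by
    ext x
    rfl
  rw [h1]
  exact isCoatom_comap_iff _ (g.subgroupComap_surjective_of_surjective A' hg) _

/-- If a subgroup `H ≤ K` has prime relative index, it is maximal in `K`. -/
theorem isCoatom_subgroupOf_of_prime {G : Type*} [Group G] [Finite G] {H K : Subgroup G}
    (h : (H.relIndex K).Prime) : IsCoatom (H.subgroupOf K) := by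
  have h' : (H.subgroupOf K).index.Prime := h
  refine ⟨?_, ?_⟩
  · intro htop
    rw [htop, Subgroup.index_top] at h'
    exact Nat.not_prime_one h'
  · intro B hB
    have h2 : (H.subgroupOf K).relIndex B * B.index = (H.subgroupOf K).index :=
      Subgroup.relIndex_mul_index hB.le
    rcases (Nat.dvd_prime h').1 (Dvd.intro_left _ h2) with h3 | h3
    · exact Subgroup.index_eq_one.1 h3
    · exfalso
      rw [h3] at h2
      have h4 : (H.subgroupOf K).relIndex B = 1 := by
        have := h'.pos
        nlinarith
      exact hB.not_ge (Subgroup.relIndex_eq_one.1 h4)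

/-- If `N ≤ M` is normal and `K N = G`, then `|K : K ∩ M| = |G : M|`. -/
theorem relIndex_eq_index_of_sup {G : Type*} [Group G] [Finite G] {M N K : Subgroup G}
    [N.Normal] (hNM : N ≤ M) (htop : K ⊔ N = ⊤) : M.relIndex K = M.index := by
  have hded : (K ⊓ M) ⊔ N = M := by
    apply le_antisymm (sup_le inf_le_right hNM)
    intro x hx
    have hx' : x ∈ K ⊔ N := htop ▸ Subgroup.mem_top x
    obtain ⟨k, hk, n, hn, rfl⟩ := Subgroup.mem_sup_of_normal_right.1 hx'
    refine mul_mem (Subgroup.mem_sup_left ⟨hk, ?_⟩) (Subgroup.mem_sup_right hn)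
    have := mul_mem hx (inv_mem (hNM hn))
    simpa using this
  have h1 : N.relIndex (K ⊓ M) = N.relIndex M := by
    have := Subgroup.relIndex_sup_right (K ⊓ M) N
    rw [hded] at this
    exact this.symm
  have h2 : N.relIndex K = N.index := by
    have := Subgroup.relIndex_sup_right K N
    rw [htop, Subgroup.relIndex_top_right] at this
    exact this.symm
  have h3 : (N ⊓ K).relIndex (M ⊓ K) * (M ⊓ K).relIndex K = (N ⊓ K).relIndex K :=
    Subgroup.relIndex_mul_relIndex _ _ _ (inf_le_inf_right K hNM) inf_le_right
  have h4 : (N ⊓ K).relIndex (M ⊓ K) = N.relIndex (K ⊓ M) := by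
    rw [inf_comm K M]
    have : N ⊓ K ⊓ (M ⊓ K) = N ⊓ (M ⊓ K) := by
      ext x
      simp only [Subgroup.mem_inf]
      tauto
    rw [← Subgroup.inf_relIndex_right, this, Subgroup.inf_relIndex_right]
  rw [h4, h1, Subgroup.inf_relIndex_right, Subgroup.inf_relIndex_right, h2] at h3
  have h5 : N.relIndex M * M.index = N.index := Subgroup.relIndex_mul_index hNM
  have h6 : N.relIndex M ≠ 0 := by
    intro h
    rw [h, zero_mul] at h5
    exact Subgroup.FiniteIndex.index_ne_zero h5.symm
  exact Nat.eq_of_mul_eq_mul_left (Nat.pos_of_ne_zero h6) (h3.trans h5.symm)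

/-- The statement of S5898, in one universe. -/
def PrimeDegree : Prop :=
  ∀ (G Ω : Type u) [Group G] [Finite G] [MulAction G Ω] [FaithfulSMul G Ω] [Finite Ω],
    (Nat.card Ω).Prime → ∀ [MulAction.IsPretransitive G Ω] (a : Ω) (M : Subgroup G), IsCoatom M →
    IsCoatom ((M ⊓ MulAction.stabilizer G a).subgroupOf (MulAction.stabilizer G a)) →
    IsCoatom ((M ⊓ MulAction.stabilizer G a).subgroupOf M)

/-- S5884 from S5898. -/
theorem main (hpd : PrimeDegree.{u}) {G : Type u} [Group G] [Finite G]
    (M : Subgroup G) (hM : M.index.Prime) (H : Subgroup G) (hHM : H ≤ M)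
    (hmax : IsCoatom (H.subgroupOf M))
    (K : Subgroup G) (hK : IsCoatom K) (hHK : H ≤ K) : IsCoatom (H.subgroupOf K) := by
  by_cases hKM : K = M
  · subst hKM; exact hmax
  have hMtop : M ≠ ⊤ := by
    rintro rfl
    rw [Subgroup.index_top] at hM
    exact Nat.not_prime_one hM
  -- `M` is maximal
  have hMK : ¬ M ≤ K := by
    intro hle
    have hlt : M < K := lt_of_le_of_ne hle (fun h => hKM h.symm)
    have h2 : M.relIndex K * K.index = M.index := Subgroup.relIndex_mul_index hle
    rcases (Nat.dvd_prime hM).1 (Dvd.intro_left _ h2) with h3 | h3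
    · exact hK.1 (Subgroup.index_eq_one.1 h3)
    · rw [h3] at h2
      have h4 : M.relIndex K = 1 := by
        have := hM.pos
        nlinarith
      exact hlt.not_ge (Subgroup.relIndex_eq_one.1 h4)
  have hH : H = K ⊓ M := by
    have hle : H ≤ K ⊓ M := le_inf hHK hHM
    by_contra hne
    have hlt : H.subgroupOf M < (K ⊓ M).subgroupOf M := by
      refine lt_of_le_of_ne (Subgroup.comap_mono hle) ?_
      intro h
      apply hne
      rw [Subgroup.subgroupOf_inj] at h
      rw [inf_eq_left.2 hHM, inf_assoc, inf_idem] at h
      exact h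
    have := hmax.2 _ hlt
    rw [Subgroup.subgroupOf_eq_top] at this
    exact hMK (this.trans inf_le_left)
  by_cases hN : M.normalCore ≤ H
  · -- pass to the faithful quotient
    let f : G →* Equiv.Perm (G ⧸ M) := MulAction.toPermHom G (G ⧸ M)
    let g : G →* f.range := f.rangeRestrict
    have hg : Function.Surjective g := f.rangeRestrict_surjective
    have hker : g.ker = M.normalCore := by
      rw [MonoidHom.ker_rangeRestrict]
      exact (Subgroup.normalCore_eq_ker M).symm
    have : MulAction.IsPretransitive f.range (G ⧸ M) := by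
      refine ⟨fun x y => ?_⟩
      obtain ⟨c, hc⟩ := MulAction.exists_smul_eq G x y
      exact ⟨g c, hc⟩
    have : FaithfulSMul f.range (G ⧸ M) := by
      refine ⟨fun {x y} h => ?_⟩
      apply Subtype.ext
      exact Equiv.ext h
    have : Finite f.range := inferInstance
    have hcard : (Nat.card (G ⧸ M)).Prime := hM
    let a : G ⧸ M := ((1 : G) : G ⧸ M)
    have hstab : (MulAction.stabilizer f.range a).comap g = M := by
      ext x
      rw [Subgroup.mem_comap, MulAction.mem_stabilizer_iff]
      change x • ((1 : G) : G ⧸ M) = _ ↔ _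
      rw [← MulAction.mem_stabilizer_iff, MulAction.stabilizer_quotient]
    let K' : Subgroup f.range := K.map g
    have hK' : K'.comap g = K := by
      apply Subgroup.comap_map_eq_self
      rw [hker]
      exact hN.trans hHK
    have hKc : IsCoatom K' := by
      rw [← isCoatom_comap_iff g hg, hK']
      exact hK
    have h1 : ((K' ⊓ MulAction.stabilizer f.range a).comap g) = H := by
      rw [Subgroup.comap_inf, hK', hstab, hH]
    have h2 : IsCoatom ((K' ⊓ MulAction.stabilizer f.range a).subgroupOf
        (MulAction.stabilizer f.range a)) := by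
      rw [← isCoatom_subgroupOf_comap_iff g hg, h1, hstab]
      exact hmax
    have h3 := hpd f.range (G ⧸ M) hcard a K' hKc h2
    rw [← isCoatom_subgroupOf_comap_iff g hg, h1, hK'] at h3
    exact h3
  · -- `N` is not contained in `K`, so `K N = G` and `|K : K ∩ M| = |G : M|`
    have hNM : M.normalCore ≤ M := Subgroup.normalCore_le M
    have hNK : ¬ M.normalCore ≤ K := by
      intro h
      apply hN
      rw [hH]
      exact le_inf h hNM
    have htop : K ⊔ M.normalCore = ⊤ := by
      apply hK.2
      refine lt_of_le_of_ne le_sup_left ?_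
      intro h
      exact hNK (h ▸ le_sup_right)
    have hKM' : K ⊔ M = ⊤ := by
      rw [eq_top_iff, ← htop]
      exact sup_le_sup_left hNM K
    apply isCoatom_subgroupOf_of_prime
    have : H.relIndex K = M.index := by
      rw [hH, inf_comm, Subgroup.inf_relIndex_right]
      -- `|K : K ∩ M| = |G : M|` since `K M = G`
      exact relIndex_eq_index_of_sup hNM htop
    rw [this]
    exact hM

end Cfsg.Agent.H935.PrimeIdx
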